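import Cfsg.Agent.Lib.Helper42.NilCov.Defs

set_option autoImplicit false

namespace Cfsg.Agent.Lib.Helper42.NilCov

open scoped LinearAlgebra.Projectivization MatrixGroups
open Matrix

variable {n : ℕ} {F : Type*} [Field F]

theorem arith (p f : ℕ) (hp : p.Prime) (hf : 1 ≤ f) (hq : 4 ≤ p ^ f) :
    (∃ r : ℕ, r.Prime ∧ r ≠ 2 ∧ r ∣ p ^ f - 1) ∨
      (p ≠ 2 ∧ (∃ k : ℕ, p ^ f - 1 = 2 ^ k) ∧ ∃ r : ℕ, r.Prime ∧ r ≠ 2 ∧ r ∣ p ^ f + 1) := by
  have hodd : ∀ r : ℕ, Odd r → r ≠ 2 := by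
    rintro r hr rfl
    exact absurd hr (by decide)
  rcases Nat.eq_two_pow_or_exists_odd_prime_and_dvd (p ^ f - 1) with ⟨k, hk⟩ | ⟨r, hr, hd, ho⟩
  · right
    have hk2 : 2 ≤ k := by
      by_contra hcon
      have : k = 0 ∨ k = 1 := by omega
      rcases this with rfl | rfl <;> simp at hk <;> omega
    obtain ⟨k', rfl⟩ : ∃ k', k = k' + 2 := ⟨k - 2, by omega⟩
    have h4 : 2 ^ (k' + 2) = 4 * 2 ^ k' := by rw [pow_add]; ring
    refine ⟨?_, ⟨_, hk⟩, ?_⟩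
    · rintro rfl
      obtain ⟨f', rfl⟩ : ∃ f', f = f' + 1 := ⟨f - 1, by omega⟩
      have : 2 ^ (f' + 1) = 2 * 2 ^ f' := by rw [pow_succ']
      omega
    · rcases Nat.eq_two_pow_or_exists_odd_prime_and_dvd (p ^ f + 1) with ⟨j, hj⟩ | ⟨r, hr, hd, ho⟩
      · exfalso
        rcases j with _ | _ | j
        · rw [pow_zero] at hj; omega
        · rw [zero_add, pow_one] at hj; omega
        · have : 2 ^ (j + 1 + 1) = 4 * 2 ^ j := by rw [pow_add, pow_add]; ring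
          omega
      · exact ⟨r, hr, hodd r ho, hd⟩
  · left
    exact ⟨r, hr, hodd r ho, hd⟩

end Cfsg.Agent.Lib.Helper42.NilCov
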