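import Cfsg.Agent.Lib.Helper42.NilCov.Defs

set_option autoImplicit false

/-! NilCov farm (S3894), piece CARD -/

namespace Cfsg.Agent.Lib.Helper42.NilCov

open scoped LinearAlgebra.Projectivization MatrixGroups
open Matrix

variable {n : ℕ} {F : Type*} [Field F]

theorem card_pts [Fintype F] (p : ℕ) [Fact p.Prime] [CharP F p] (hn : 1 ≤ n) :
    Nat.card (ℙ F (Fin n → F)) ≡ 1 [MOD p] := by
  obtain ⟨m, rfl⟩ : ∃ m, n = m + 1 := ⟨n - 1, by omega⟩
  rw [Projectivization.card_of_finrank F (Fin (m + 1) → F) (Module.finrank_fin_fun F),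
    Finset.sum_range_succ', pow_zero]
  have hp : p ∣ Nat.card F := by
    rw [Nat.card_eq_fintype_card, ← CharP.cast_eq_zero_iff F p]
    exact Nat.cast_card_eq_zero F
  have h1 : p ∣ ∑ i ∈ Finset.range m, Nat.card F ^ (i + 1) :=
    Finset.dvd_sum fun i _ => Dvd.dvd.pow hp (Nat.succ_ne_zero i)
  have h2 : (∑ i ∈ Finset.range m, Nat.card F ^ (i + 1)) ≡ 0 [MOD p] :=
    (Nat.modEq_zero_iff_dvd).2 h1
  simpa using h2.add_right 1

end Cfsg.Agent.Lib.Helper42.NilCov
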