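import Cfsg.Agent.Lib.Helper42.NilCov.Defs

set_option autoImplicit false

/-! NilCov farm (S3894), piece CJC -/

namespace Cfsg.Agent.Lib.Helper42.NilCov

open scoped LinearAlgebra.Projectivization MatrixGroups
open Matrix

variable {n : ℕ} {F : Type*} [Field F]

theorem CJC_hi (h : GL (Fin n) F) : (h : Matrix (Fin n) (Fin n) F) *
    ((h⁻¹ : GL (Fin n) F) : Matrix (Fin n) (Fin n) F) = 1 := by
  rw [← Units.val_mul, mul_inv_cancel, Units.val_one]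

theorem CJC_ih (h : GL (Fin n) F) : ((h⁻¹ : GL (Fin n) F) : Matrix (Fin n) (Fin n) F) *
    (h : Matrix (Fin n) (Fin n) F) = 1 := by
  rw [← Units.val_mul, inv_mul_cancel, Units.val_one]

theorem CJC_one (h : GL (Fin n) F) : cj h (1 : Matrix.SpecialLinearGroup (Fin n) F) = 1 := by
  apply Subtype.ext
  show (h : Matrix (Fin n) (Fin n) F) * 1 * ((h⁻¹ : GL (Fin n) F) : Matrix (Fin n) (Fin n) F) = 1
  rw [mul_one, CJC_hi]

theorem CJC_mul (h : GL (Fin n) F) (u u' : Matrix.SpecialLinearGroup (Fin n) F) :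
    cj h (u * u') = cj h u * cj h u' := by
  apply Subtype.ext
  show (h : Matrix (Fin n) (Fin n) F) * ((u : Matrix (Fin n) (Fin n) F) * (u' : Matrix (Fin n) (Fin n) F)) *
      ((h⁻¹ : GL (Fin n) F) : Matrix (Fin n) (Fin n) F) =
    ((h : Matrix (Fin n) (Fin n) F) * (u : Matrix (Fin n) (Fin n) F) *
      ((h⁻¹ : GL (Fin n) F) : Matrix (Fin n) (Fin n) F)) *
    ((h : Matrix (Fin n) (Fin n) F) * (u' : Matrix (Fin n) (Fin n) F) *
      ((h⁻¹ : GL (Fin n) F) : Matrix (Fin n) (Fin n) F))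
  have e : ((h : Matrix (Fin n) (Fin n) F) * (u : Matrix (Fin n) (Fin n) F) *
      ((h⁻¹ : GL (Fin n) F) : Matrix (Fin n) (Fin n) F)) *
    ((h : Matrix (Fin n) (Fin n) F) * (u' : Matrix (Fin n) (Fin n) F) *
      ((h⁻¹ : GL (Fin n) F) : Matrix (Fin n) (Fin n) F)) =
      (h : Matrix (Fin n) (Fin n) F) * (u : Matrix (Fin n) (Fin n) F) *
      (((h⁻¹ : GL (Fin n) F) : Matrix (Fin n) (Fin n) F) * (h : Matrix (Fin n) (Fin n) F)) *
      (u' : Matrix (Fin n) (Fin n) F) * ((h⁻¹ : GL (Fin n) F) : Matrix (Fin n) (Fin n) F) := by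
    simp only [mul_assoc]
  rw [e, CJC_ih, mul_one]
  simp only [mul_assoc]

theorem CJC_pow (h : GL (Fin n) F) (u : Matrix.SpecialLinearGroup (Fin n) F) (k : ℕ) :
    cj h u ^ k = cj h (u ^ k) := by
  induction k with
  | zero => rw [pow_zero, pow_zero, CJC_one]
  | succ k ih => rw [pow_succ, pow_succ, CJC_mul, ih]

theorem cj_col (p : ℕ) (h : GL (Fin n) F) (u : Matrix.SpecialLinearGroup (Fin n) F) (v : Fin n → F)
    (hu : UCol p u v) : UCol p (cj h u) ((h : Matrix (Fin n) (Fin n) F) *ᵥ v) := by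
  obtain ⟨hv, ⟨k, hk⟩, hfix, huniq⟩ := hu
  refine ⟨?_, ⟨k, by rw [CJC_pow, hk, CJC_one]⟩, ?_, ?_⟩
  · intro h0
    apply hv
    have := congrArg (fun w => ((h⁻¹ : GL (Fin n) F) : Matrix (Fin n) (Fin n) F) *ᵥ w) h0
    simpa [Matrix.mulVec_mulVec, CJC_ih] using this
  · show ((h : Matrix (Fin n) (Fin n) F) * (u : Matrix (Fin n) (Fin n) F) *
      ((h⁻¹ : GL (Fin n) F) : Matrix (Fin n) (Fin n) F)) *ᵥ ((h : Matrix (Fin n) (Fin n) F) *ᵥ v) = _
    rw [Matrix.mulVec_mulVec, mul_assoc, CJC_ih, mul_one, ← Matrix.mulVec_mulVec, hfix]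
  · intro w hw
    have hw' : ((h : Matrix (Fin n) (Fin n) F) * (u : Matrix (Fin n) (Fin n) F) *
      ((h⁻¹ : GL (Fin n) F) : Matrix (Fin n) (Fin n) F)) *ᵥ w = w := hw
    have h1 : (u : Matrix (Fin n) (Fin n) F) *ᵥ (((h⁻¹ : GL (Fin n) F) : Matrix (Fin n) (Fin n) F) *ᵥ w) =
        ((h⁻¹ : GL (Fin n) F) : Matrix (Fin n) (Fin n) F) *ᵥ w := by
      conv_rhs => rw [← hw']
      rw [Matrix.mulVec_mulVec, Matrix.mulVec_mulVec, ← mul_assoc, ← mul_assoc, CJC_ih, one_mul]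
    obtain ⟨d, hd⟩ := huniq _ h1
    refine ⟨d, ?_⟩
    rw [← Matrix.mulVec_smul, ← hd, Matrix.mulVec_mulVec, CJC_hi, Matrix.one_mulVec]

end Cfsg.Agent.Lib.Helper42.NilCov
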