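import Cfsg.Agent.Lib.Helper42.NilCov.Defs

set_option autoImplicit false

/-! NilCov farm (S3894), piece CJR -/

namespace Cfsg.Agent.Lib.Helper42.NilCov

open scoped LinearAlgebra.Projectivization MatrixGroups
open Matrix

variable {n : ℕ} {F : Type*} [Field F]

theorem CJR_hi (h : GL (Fin n) F) : (h : Matrix (Fin n) (Fin n) F) *
    ((h⁻¹ : GL (Fin n) F) : Matrix (Fin n) (Fin n) F) = 1 := by
  rw [← Units.val_mul, mul_inv_cancel, Units.val_one]

theorem CJR_ih (h : GL (Fin n) F) : ((h⁻¹ : GL (Fin n) F) : Matrix (Fin n) (Fin n) F) *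
    (h : Matrix (Fin n) (Fin n) F) = 1 := by
  rw [← Units.val_mul, inv_mul_cancel, Units.val_one]

theorem cj_row (h : GL (Fin n) F) (u : Matrix.SpecialLinearGroup (Fin n) F) (φ : Fin n → F)
    (hu : URow u φ) : URow (cj h u) (φ ᵥ* ((h⁻¹ : GL (Fin n) F) : Matrix (Fin n) (Fin n) F)) := by
  obtain ⟨hφ, hfix, huniq⟩ := hu
  refine ⟨?_, ?_, ?_⟩
  · intro h0
    apply hφ
    have := congrArg (fun w => w ᵥ* (h : Matrix (Fin n) (Fin n) F)) h0
    simpa [Matrix.vecMul_vecMul, CJR_ih] using this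
  · show (φ ᵥ* ((h⁻¹ : GL (Fin n) F) : Matrix (Fin n) (Fin n) F)) ᵥ*
      ((h : Matrix (Fin n) (Fin n) F) * (u : Matrix (Fin n) (Fin n) F) *
      ((h⁻¹ : GL (Fin n) F) : Matrix (Fin n) (Fin n) F)) = _
    rw [Matrix.vecMul_vecMul, ← mul_assoc, ← mul_assoc, CJR_ih, one_mul, ← Matrix.vecMul_vecMul, hfix]
  · intro w hw
    have hw' : w ᵥ* ((h : Matrix (Fin n) (Fin n) F) * (u : Matrix (Fin n) (Fin n) F) *
      ((h⁻¹ : GL (Fin n) F) : Matrix (Fin n) (Fin n) F)) = w := hw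
    have h1 : (w ᵥ* (h : Matrix (Fin n) (Fin n) F)) ᵥ* (u : Matrix (Fin n) (Fin n) F) =
        w ᵥ* (h : Matrix (Fin n) (Fin n) F) := by
      conv_rhs => rw [← hw']
      rw [Matrix.vecMul_vecMul, Matrix.vecMul_vecMul, mul_assoc, CJR_ih, mul_one]
    obtain ⟨d, hd⟩ := huniq _ h1
    refine ⟨d, ?_⟩
    rw [← Matrix.smul_vecMul, ← hd, Matrix.vecMul_vecMul, CJR_hi, Matrix.vecMul_one]

end Cfsg.Agent.Lib.Helper42.NilCov
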