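import Cfsg.Agent.Lib.Helper42.NilCov.Defs
import Cfsg.Agent.Lib.Helper25.NilpotentCoprime

set_option autoImplicit false

/-! NilCov farm (S3894), piece COP -/

namespace Cfsg.Agent.Lib.Helper42.NilCov

open scoped LinearAlgebra.Projectivization MatrixGroups
open Matrix

variable {n : ℕ} {F : Type*} [Field F]

theorem cop {A : Type*} [Group A] [Finite A] (hA : Group.IsNilpotent A) (x y : A)
    (h : (orderOf x).Coprime (orderOf y)) : Commute x y :=
  Cfsg.Agent.Lib.Helper25.commute_of_coprime_orderOf A x y h

end Cfsg.Agent.Lib.Helper42.NilCov
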