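import Cfsg.Agent.Lib.Helper42.NilCov.Defs

set_option autoImplicit false

/-! NilCov farm (S3894), piece CORE -/

namespace Cfsg.Agent.Lib.Helper42.NilCov

open scoped LinearAlgebra.Projectivization MatrixGroups
open Matrix

variable {n : ℕ} {F : Type*} [Field F]

theorem core {Γ : Type*} [Group Γ] [Finite Γ] (𝓐 : Finset (Subgroup Γ))
    (hmin : ∀ 𝓑 : Finset (Subgroup Γ), (∀ A ∈ 𝓑, A ≠ ⊤) ∧ (∀ g : Γ, ∃ A ∈ 𝓑, g ∈ A) → 𝓐.card ≤ 𝓑.card)
    (hprop : ∀ A ∈ 𝓐, A ≠ ⊤) (hcov : ∀ g : Γ, ∃ A ∈ 𝓐, g ∈ A)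
    {Ω : Type*} [Finite Ω] (M : Ω → Subgroup Γ) (hM : ∀ x, M x ≠ ⊤)
    (a : Option Ω → Subgroup Γ) (ha : Function.Injective a) (ha𝓐 : ∀ i, a i ∈ 𝓐)
    (hrep : ∀ i, ∀ g ∈ a i, (∃ x, g ∈ M x) ∨ ∃ A ∈ 𝓐, (∀ j, A ≠ a j) ∧ g ∈ A) : False := by
  classical
  haveI : Fintype Ω := Fintype.ofFinite Ω
  set I : Finset (Subgroup Γ) := Finset.univ.image a with hI
  set 𝓑 : Finset (Subgroup Γ) := (𝓐 \ I) ∪ Finset.univ.image M with hB
  have hIsub : I ⊆ 𝓐 := by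
    intro A hA
    obtain ⟨i, -, rfl⟩ := Finset.mem_image.1 hA
    exact ha𝓐 i
  have hIcard : I.card = Fintype.card Ω + 1 := by
    rw [hI, Finset.card_image_of_injective _ ha, Finset.card_univ, Fintype.card_option]
  have hMcard : (Finset.univ.image M).card ≤ Fintype.card Ω := by
    exact Finset.card_image_le.trans (le_of_eq Finset.card_univ)
  have hBcard : 𝓑.card ≤ (𝓐.card - I.card) + Fintype.card Ω := by
    calc 𝓑.card ≤ (𝓐 \ I).card + (Finset.univ.image M).card := Finset.card_union_le _ _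
      _ ≤ (𝓐.card - I.card) + Fintype.card Ω := by
        rw [Finset.card_sdiff_of_subset hIsub]
        exact Nat.add_le_add_left hMcard _
  have hIle : I.card ≤ 𝓐.card := Finset.card_le_card hIsub
  have hle := hmin 𝓑 ⟨?_, ?_⟩
  · omega
  · intro A hA
    rcases Finset.mem_union.1 hA with h | h
    · exact hprop A (Finset.mem_sdiff.1 h).1
    · obtain ⟨x, -, rfl⟩ := Finset.mem_image.1 h
      exact hM x
  · intro g
    obtain ⟨A, hA, hg⟩ := hcov g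
    by_cases hAI : A ∈ I
    · obtain ⟨i, -, rfl⟩ := Finset.mem_image.1 hAI
      rcases hrep i g hg with ⟨x, hx⟩ | ⟨A', hA', hne, hg'⟩
      · exact ⟨M x, Finset.mem_union_right _ (Finset.mem_image_of_mem _ (Finset.mem_univ x)), hx⟩
      · refine ⟨A', Finset.mem_union_left _ (Finset.mem_sdiff.2 ⟨hA', ?_⟩), hg'⟩
        intro hc
        obtain ⟨j, -, hj⟩ := Finset.mem_image.1 hc
        exact hne j hj.symm
    · exact ⟨A, Finset.mem_union_left _ (Finset.mem_sdiff.2 ⟨hA, hAI⟩), hg⟩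

end Cfsg.Agent.Lib.Helper42.NilCov
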