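import Cfsg.Agent.Lib.Helper42.NilCov.Defs

set_option autoImplicit false

namespace Cfsg.Agent.Lib.Helper42.NilCov

open scoped LinearAlgebra.Projectivization MatrixGroups
open Matrix

variable {n : ℕ} {F : Type*} [Field F]

theorem derA {Γ Ω : Type*} [Group Γ] [MulAction Γ Ω] [Finite Ω] (r : ℕ) [Fact r.Prime] (hr : r ≠ 2)
    (hcard : r ∣ Nat.card Ω)
    (h3 : ∀ g : Γ, ∀ x y z : Ω, x ≠ y → x ≠ z → y ≠ z → g • x = x → g • y = y → g • z = z → g = 1)
    (w : Γ) (hw : orderOf w = r) (x : Ω) : w • x ≠ x := by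
  intro hx
  have hrp : r.Prime := Fact.out
  have hP : IsPGroup r (Subgroup.zpowers w) := IsPGroup.of_card (n := 1) (by
    rw [Nat.card_zpowers, hw, pow_one])
  have h1 := hP.card_modEq_card_fixedPoints Ω
  have h2 : r ∣ Nat.card (MulAction.fixedPoints (Subgroup.zpowers w) Ω) :=
    (Nat.modEq_zero_iff_dvd.1 (h1.symm.trans (Nat.modEq_zero_iff_dvd.2 hcard)))
  have hxf : x ∈ MulAction.fixedPoints (Subgroup.zpowers w) Ω := by
    rintro ⟨g, hg⟩
    obtain ⟨k, rfl⟩ := Subgroup.mem_zpowers_iff.1 hg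
    show w ^ k • x = x
    have hst : w ∈ MulAction.stabilizer Γ x := hx
    exact (MulAction.stabilizer Γ x).zpow_mem hst k
  have : Nonempty (MulAction.fixedPoints (Subgroup.zpowers w) Ω) := ⟨⟨x, hxf⟩⟩
  have h4 : r ≤ Nat.card (MulAction.fixedPoints (Subgroup.zpowers w) Ω) :=
    Nat.le_of_dvd Nat.card_pos h2
  have h5 : 3 ≤ r := by
    have := hrp.two_le
    omega
  have : Fintype (MulAction.fixedPoints (Subgroup.zpowers w) Ω) := Fintype.ofFinite _
  rw [Nat.card_eq_fintype_card] at h4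
  obtain ⟨a, b, c, hab, hac, hbc⟩ := Fintype.two_lt_card_iff.1
    (by omega : 2 < Fintype.card (MulAction.fixedPoints (Subgroup.zpowers w) Ω))
  have hfix : ∀ y : MulAction.fixedPoints (Subgroup.zpowers w) Ω, w • (y : Ω) = y := fun y =>
    y.2 ⟨w, Subgroup.mem_zpowers w⟩
  have := h3 w a b c (fun h => hab (Subtype.ext h)) (fun h => hac (Subtype.ext h))
    (fun h => hbc (Subtype.ext h)) (hfix a) (hfix b) (hfix c)
  rw [this, orderOf_one] at hw
  exact hrp.one_lt.ne hw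

end Cfsg.Agent.Lib.Helper42.NilCov
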