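import Mathlib

set_option autoImplicit false

/-! # NilCov farm (S3894): definitions -/

namespace Cfsg.Agent.Lib.Helper42.NilCov

open scoped LinearAlgebra.Projectivization MatrixGroups
open Matrix

/-- `PGL_n(F)` exactly as in the statement S3894 -/
abbrev PG (n : ℕ) (F : Type*) [Field F] := GL (Fin n) F ⧸ Subgroup.center (GL (Fin n) F)

/-- the action of `PGL_n(F)` on the points of projective space (Mathlib's, transported) -/
noncomputable instance instActPG (n : ℕ) (F : Type*) [Field F] :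
    MulAction (PG n F) (ℙ F (Fin n → F)) :=
  inferInstanceAs (MulAction (Matrix.ProjGenLinGroup (Fin n) F) (ℙ F (Fin n → F)))

theorem mk_smul_mk {n : ℕ} {F : Type*} [Field F] (g : GL (Fin n) F) {v : Fin n → F} (hv : v ≠ 0) :
    (QuotientGroup.mk' (Subgroup.center (GL (Fin n) F)) g : PG n F) • Projectivization.mk F v hv =
      Projectivization.mk F ((g : Matrix (Fin n) (Fin n) F) *ᵥ v)
        ((smul_ne_zero_iff_ne g).2 hv) := rfl

/-- the image of an element of `SL_n(F)` in `PGL_n(F)` -/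
noncomputable def im {n : ℕ} {F : Type*} [Field F] (u : Matrix.SpecialLinearGroup (Fin n) F) : PG n F :=
  QuotientGroup.mk' (Subgroup.center (GL (Fin n) F)) (Matrix.SpecialLinearGroup.toGL u)

/-- `Γ` has a nilpotent minimal cover (text of S3894) -/
def NilMinCover (Γ : Type*) [Group Γ] : Prop :=
  ∃ 𝓐 : Finset (Subgroup Γ), ((∀ A ∈ 𝓐, A ≠ ⊤) ∧ (∀ g : Γ, ∃ A ∈ 𝓐, g ∈ A)) ∧
    (∀ 𝓑 : Finset (Subgroup Γ), (∀ A ∈ 𝓑, A ≠ ⊤) ∧ (∀ g : Γ, ∃ A ∈ 𝓑, g ∈ A) → 𝓐.card ≤ 𝓑.card) ∧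
    (∀ A ∈ 𝓐, Group.IsNilpotent ↥A)

/-- `u` is a `p`-element with `x` as its only fixed point -/
def UFix {Γ Ω : Type*} [Group Γ] [MulAction Γ Ω] (p : ℕ) (u : Γ) (x : Ω) : Prop :=
  (∃ k : ℕ, u ^ p ^ k = 1) ∧ ∀ y : Ω, u • y = y ↔ y = x

/-- `u` is a `p`-element of `SL_n` whose fixed column vectors are the multiples of `v ≠ 0` -/
def UCol {n : ℕ} {F : Type*} [Field F] (p : ℕ) (u : Matrix.SpecialLinearGroup (Fin n) F)
    (v : Fin n → F) : Prop :=
  v ≠ 0 ∧ (∃ k : ℕ, u ^ p ^ k = 1) ∧ (u : Matrix (Fin n) (Fin n) F) *ᵥ v = v ∧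
    ∀ w : Fin n → F, (u : Matrix (Fin n) (Fin n) F) *ᵥ w = w → ∃ d : F, w = d • v

/-- the fixed row vectors of `u` are the multiples of `φ ≠ 0` -/
def URow {n : ℕ} {F : Type*} [Field F] (u : Matrix.SpecialLinearGroup (Fin n) F)
    (φ : Fin n → F) : Prop :=
  φ ≠ 0 ∧ φ ᵥ* (u : Matrix (Fin n) (Fin n) F) = φ ∧
    ∀ w : Fin n → F, w ᵥ* (u : Matrix (Fin n) (Fin n) F) = w → ∃ d : F, w = d • φ

/-- the regular unipotent matrix `1 + Σ E_{i,i+1}` -/
def Jm (n : ℕ) (F : Type*) [Field F] : Matrix (Fin n) (Fin n) F :=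
  fun i j => if i = j ∨ i.val + 1 = j.val then 1 else 0

theorem det_Jm (n : ℕ) (F : Type*) [Field F] : (Jm n F).det = 1 := by
  have h : (Jm n F).BlockTriangular id := by
    intro i j hij
    have hij' : j.val < i.val := hij
    unfold Jm
    rw [if_neg]
    rintro (h | h)
    · rw [h] at hij'; exact lt_irrefl _ hij'
    · omega
  rw [Matrix.det_of_upperTriangular h]
  apply Finset.prod_eq_one
  intro i _
  simp [Jm]

/-- the regular unipotent element of `SL_n(F)` -/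
def Jg (n : ℕ) (F : Type*) [Field F] : Matrix.SpecialLinearGroup (Fin n) F := ⟨Jm n F, det_Jm n F⟩

/-- conjugate of an element of `SL_n` by an element of `GL_n` -/
def cj {n : ℕ} {F : Type*} [Field F] (h : GL (Fin n) F) (u : Matrix.SpecialLinearGroup (Fin n) F) :
    Matrix.SpecialLinearGroup (Fin n) F :=
  ⟨(h : Matrix (Fin n) (Fin n) F) * (u : Matrix (Fin n) (Fin n) F) *
      ((h⁻¹ : GL (Fin n) F) : Matrix (Fin n) (Fin n) F), by
    rw [Matrix.det_mul, Matrix.det_mul, u.2, mul_one, ← Matrix.det_mul, ← Units.val_mul,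
      mul_inv_cancel, Units.val_one, Matrix.det_one]⟩

/-- first and last basis vectors -/
def e0 (n : ℕ) (F : Type*) [Field F] : Fin n → F := fun i => if i.val = 0 then 1 else 0
def eL (n : ℕ) (F : Type*) [Field F] : Fin n → F := fun i => if i.val + 1 = n then 1 else 0

/-- `diag(a, a⁻¹)` in `SL_2(F)` -/
def tD {F : Type*} [Field F] (a : Fˣ) : Matrix.SpecialLinearGroup (Fin 2) F :=
  ⟨!![(a : F), 0; 0, ((a⁻¹ : Fˣ) : F)], by simp [Matrix.det_fin_two]⟩

theorem v0_ne {F : Type*} [Field F] : (![1, 0] : Fin 2 → F) ≠ 0 := fun h => by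
  simpa using congrFun h 0
theorem v1_ne {F : Type*} [Field F] : (![0, 1] : Fin 2 → F) ≠ 0 := fun h => by
  simpa using congrFun h 1

/-- the two fixed points of `diag(a, a⁻¹)` -/
def pt0 (F : Type*) [Field F] : ℙ F (Fin 2 → F) := Projectivization.mk F ![1, 0] v0_ne
def pt1 (F : Type*) [Field F] : ℙ F (Fin 2 → F) := Projectivization.mk F ![0, 1] v1_ne

end Cfsg.Agent.Lib.Helper42.NilCov
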