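import Cfsg.Agent.Lib.Helper42.NilCov.Defs

set_option autoImplicit false

/-! NilCov farm (S3894), piece EA -/

namespace Cfsg.Agent.Lib.Helper42.NilCov

open scoped LinearAlgebra.Projectivization MatrixGroups
open Matrix

variable {n : ℕ} {F : Type*} [Field F]

theorem exists_unit_order [Fintype F] (r : ℕ) [Fact r.Prime] (hr : r ∣ Fintype.card F - 1) :
    ∃ a : Fˣ, orderOf a = r := by
  classical
  apply exists_prime_orderOf_dvd_card r
  rw [Fintype.card_units]
  exact hr

end Cfsg.Agent.Lib.Helper42.NilCov
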