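import Cfsg.Agent.Lib.Helper42.NilCov.Defs

set_option autoImplicit false

/-! NilCov farm (S3894), piece EB -/

namespace Cfsg.Agent.Lib.Helper42.NilCov

open scoped LinearAlgebra.Projectivization MatrixGroups
open Matrix

variable {n : ℕ} {F : Type*} [Field F]

theorem exists_unit_sq [Fintype F] (hq : 4 ≤ Fintype.card F) : ∃ a : Fˣ, a ^ 2 ≠ 1 := by
  classical
  by_contra hcon
  push Not at hcon
  have h1 : ∀ a : Fˣ, a ∈ ({1, -1} : Finset Fˣ) := by
    intro a
    have h2 := hcon a
    have h3 : ((a : F)) ^ 2 = 1 := by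
      have := congrArg (Units.val) h2
      simpa using this
    have h4 : ((a : F) - 1) * ((a : F) + 1) = 0 := by ring_nf; rw [h3]; ring
    rcases mul_eq_zero.mp h4 with h5 | h5
    · have : a = 1 := Units.ext (by simpa using sub_eq_zero.mp h5)
      simp [this]
    · have : a = -1 := Units.ext (by simpa using eq_neg_of_add_eq_zero_left h5)
      simp [this]
  have h2 : Fintype.card Fˣ ≤ 2 := by
    calc Fintype.card Fˣ = (Finset.univ : Finset Fˣ).card := rfl
      _ ≤ ({1, -1} : Finset Fˣ).card := Finset.card_le_card (fun a _ => h1 a)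
      _ ≤ 2 := Finset.card_le_two
  rw [Fintype.card_units] at h2
  omega

end Cfsg.Agent.Lib.Helper42.NilCov
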