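import Cfsg.Agent.Lib.Helper42.NilCov.Defs

set_option autoImplicit false

/-! NilCov farm (S3894), piece EVR -/

namespace Cfsg.Agent.Lib.Helper42.NilCov

open scoped LinearAlgebra.Projectivization MatrixGroups
open Matrix

variable {n : ℕ} {F : Type*} [Field F]

theorem ev_row (p : ℕ) [Fact p.Prime] [CharP F p] (u : Matrix (Fin n) (Fin n) F) (k : ℕ)
    (hu : u ^ p ^ k = 1) (v : Fin n → F) (hv : v ≠ 0) (c : F) (h : v ᵥ* u = c • v) : c = 1 := by
  have h1 : ∀ m : ℕ, v ᵥ* (u ^ m) = c ^ m • v := by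
    intro m
    induction m with
    | zero => simp
    | succ m ih =>
      rw [pow_succ, ← Matrix.vecMul_vecMul, ih, Matrix.smul_vecMul, h, smul_smul, pow_succ]
  have h2 := h1 (p ^ k)
  rw [hu, Matrix.vecMul_one] at h2
  have h3 : c ^ p ^ k = 1 := by
    have h4 : (c ^ p ^ k - 1) • v = 0 := by
      rw [sub_smul, one_smul, ← h2, sub_self]
    exact sub_eq_zero.1 ((smul_eq_zero.1 h4).resolve_right hv)
  have h5 : (c - 1) ^ p ^ k = 0 := by
    rw [sub_pow_char_pow, h3, one_pow, sub_self]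
  exact sub_eq_zero.1 (pow_eq_zero_iff (pow_ne_zero _ (Fact.out : p.Prime).ne_zero) |>.1 h5)

end Cfsg.Agent.Lib.Helper42.NilCov
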