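import Cfsg.Agent.Lib.Helper42.NilCov.Defs

set_option autoImplicit false

/-! NilCov farm (S3894), piece FR -/

namespace Cfsg.Agent.Lib.Helper42.NilCov

open scoped LinearAlgebra.Projectivization MatrixGroups
open Matrix

variable {n : ℕ} {F : Type*} [Field F]

theorem FR_exists_fixed_gen [Fintype F] (p : ℕ) [Fact p.Prime] [CharP F p] {G : Type*} [Group G]
    (hG : IsPGroup p G) (S : Submodule F (Fin n → F)) (hS : S ≠ ⊥) [MulAction G S]
    (h0 : ∀ g : G, g • (0 : S) = 0) : ∃ v : S, v ≠ 0 ∧ ∀ g : G, g • v = v := by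
  have hpF : p ∣ Nat.card F := by
    rw [Nat.card_eq_fintype_card, ← CharP.cast_eq_zero_iff F p]
    exact Nat.cast_card_eq_zero F
  have hpos : 0 < Module.finrank F S := by
    rw [Module.finrank_pos_iff]
    exact Submodule.nontrivial_iff_ne_bot.2 hS
  have hp : p ∣ Nat.card S := by
    rw [Module.natCard_eq_pow_finrank (K := F) (V := S)]
    exact dvd_pow hpF hpos.ne'
  obtain ⟨b, hb, hne⟩ := hG.exists_fixed_point_of_prime_dvd_card_of_fixed_point S hp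
    (a := 0) (fun g => h0 g)
  exact ⟨b, hne.symm, hb⟩

theorem FR_fixed [Fintype F] (p : ℕ) [Fact p.Prime] [CharP F p]
    (D : Subgroup (GL (Fin n) F)) (hD : IsPGroup p D)
    (hS : (⊤ : Submodule F (Fin n → F)) ≠ ⊥) :
    ∃ f : Fin n → F, f ≠ 0 ∧ ∀ d ∈ D, f ᵥ* (d : Matrix (Fin n) (Fin n) F) = f := by
  let _ : MulAction D (⊤ : Submodule F (Fin n → F)) :=
    { smul := fun d v => ⟨(v : Fin n → F) ᵥ*
        (((d⁻¹ : D) : GL (Fin n) F) : Matrix (Fin n) (Fin n) F), Submodule.mem_top⟩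
      one_smul := fun v => Subtype.ext (by
        show (v : Fin n → F) ᵥ*
          ((((1 : D)⁻¹ : D) : GL (Fin n) F) : Matrix (Fin n) (Fin n) F) = v
        rw [inv_one, Subgroup.coe_one, Units.val_one, Matrix.vecMul_one])
      mul_smul := fun a b v => Subtype.ext (by
        show (v : Fin n → F) ᵥ*
          ((((a * b)⁻¹ : D) : GL (Fin n) F) : Matrix (Fin n) (Fin n) F) =
          ((v : Fin n → F) ᵥ*
            (((b⁻¹ : D) : GL (Fin n) F) : Matrix (Fin n) (Fin n) F)) ᵥ*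
            (((a⁻¹ : D) : GL (Fin n) F) : Matrix (Fin n) (Fin n) F)
        rw [_root_.mul_inv_rev, Subgroup.coe_mul, Units.val_mul,
          Matrix.vecMul_vecMul]) }
  obtain ⟨v, hv0, hv⟩ := FR_exists_fixed_gen p hD ⊤ hS (fun g => Subtype.ext (by
    show (0 : Fin n → F) ᵥ*
      (((g⁻¹ : D) : GL (Fin n) F) : Matrix (Fin n) (Fin n) F) = 0
    rw [Matrix.zero_vecMul]))
  refine ⟨v, fun h => hv0 (Subtype.ext h), fun d hd => ?_⟩
  have h1 := congrArg Subtype.val (hv (⟨d, hd⟩ : D)⁻¹)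
  have h2 : (v : Fin n → F) ᵥ* (((((⟨d, hd⟩ : D)⁻¹)⁻¹ : D) :
      GL (Fin n) F) : Matrix (Fin n) (Fin n) F) = v := h1
  rw [inv_inv] at h2
  exact h2

theorem fix_row [Fintype F] (p : ℕ) [Fact p.Prime] [CharP F p] (N : Subgroup (GL (Fin n) F))
    (hN : Group.IsNilpotent ↥N) (u : Matrix.SpecialLinearGroup (Fin n) F) (hp : ∃ k : ℕ, u ^ p ^ k = 1)
    (huN : Matrix.SpecialLinearGroup.toGL u ∈ N) (φ : Fin n → F) (hφ : URow u φ) :
    ∀ a ∈ N, ∃ c : F, φ ᵥ* (a : Matrix (Fin n) (Fin n) F) = c • φ := by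
  classical
  obtain ⟨hφ0, hφu, hφuniq⟩ := hφ
  have hS : (⊤ : Submodule F (Fin n → F)) ≠ ⊥ := by
    intro h
    have h1 : φ ∈ (⊤ : Submodule F (Fin n → F)) := Submodule.mem_top
    rw [h, Submodule.mem_bot] at h1
    exact hφ0 h1
  obtain ⟨x, hxdef⟩ : ∃ x : ↥N, x = ⟨Matrix.SpecialLinearGroup.toGL u, huN⟩ := ⟨_, rfl⟩
  obtain ⟨k, hk⟩ := hp
  have hx : x ^ p ^ k = 1 := by
    rw [hxdef]
    apply Subtype.ext
    show (Matrix.SpecialLinearGroup.toGL u) ^ p ^ k = 1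
    rw [← map_pow, hk, map_one]
  have hz : IsPGroup p (Subgroup.zpowers x) := by
    rintro ⟨g, hg⟩
    obtain ⟨i, rfl⟩ := Subgroup.mem_zpowers_iff.1 hg
    refine ⟨k, Subtype.ext ?_⟩
    show (x ^ i) ^ p ^ k = 1
    rw [← zpow_natCast, ← _root_.zpow_mul, mul_comm, _root_.zpow_mul, zpow_natCast, hx, _root_.one_zpow]
  obtain ⟨Q, hQ⟩ := hz.exists_le_sylow
  have hall : ∀ (p : ℕ) (_hp : Fact p.Prime) (P : Sylow p ↥N), (↑P : Subgroup ↥N).Normal :=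
    ((Group.isNilpotent_of_finite_tfae (G := ↥N)).out 0 3).1 hN
  have hQn : (Q : Subgroup ↥N).Normal := hall p inferInstance Q
  have hxQ : x ∈ (Q : Subgroup ↥N) := hQ (Subgroup.mem_zpowers x)
  obtain ⟨ψ, hψ0, hψ⟩ := FR_fixed p ((Q : Subgroup ↥N).map N.subtype) (Q.isPGroup'.map N.subtype) hS
  have hψu : ψ ᵥ* (u : Matrix (Fin n) (Fin n) F) = ψ :=
    hψ (Matrix.SpecialLinearGroup.toGL u) ⟨x, hxQ, by rw [hxdef]; rfl⟩
  obtain ⟨d, hd⟩ := hφuniq ψ hψu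
  have hd0 : d ≠ 0 := by
    rintro rfl
    rw [zero_smul] at hd
    exact hψ0 hd
  have hφψ : φ = d⁻¹ • ψ := by rw [hd, smul_smul, inv_mul_cancel₀ hd0, one_smul]
  have hφQ : ∀ y ∈ (Q : Subgroup ↥N).map N.subtype, φ ᵥ* (y : Matrix (Fin n) (Fin n) F) = φ := by
    intro y hy
    rw [hφψ, Matrix.smul_vecMul, hψ y hy]
  intro a ha
  apply hφuniq
  have h1 : a * Matrix.SpecialLinearGroup.toGL u * a⁻¹ ∈ (Q : Subgroup ↥N).map N.subtype :=
    ⟨⟨a, ha⟩ * x * ⟨a, ha⟩⁻¹, hQn.conj_mem _ hxQ _, by rw [hxdef]; rfl⟩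
  have h2 := hφQ _ h1
  have h3 : (a : Matrix (Fin n) (Fin n) F) * (u : Matrix (Fin n) (Fin n) F) =
      ((a * Matrix.SpecialLinearGroup.toGL u * a⁻¹ : GL (Fin n) F) : Matrix (Fin n) (Fin n) F) *
        (a : Matrix (Fin n) (Fin n) F) := by
    rw [← Units.val_mul, inv_mul_cancel_right]
    rfl
  rw [Matrix.vecMul_vecMul, h3, ← Matrix.vecMul_vecMul, h2]

end Cfsg.Agent.Lib.Helper42.NilCov
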