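import Cfsg.Agent.Lib.Helper42.NilCov.Defs

set_option autoImplicit false

namespace Cfsg.Agent.Lib.Helper42.NilCov

open scoped LinearAlgebra.Projectivization MatrixGroups
open Matrix

variable {n : ℕ} {F : Type*} [Field F]

theorem gf {Γ : Type*} [Group Γ] [Finite Γ] (h w : Γ) (hc : Commute w h) (r : ℕ) [Fact r.Prime]
    (hw : orderOf w = r) : ∃ g : Γ, h ∈ Subgroup.zpowers g ∧ r ∣ orderOf g := by
  have hrp : r.Prime := Fact.out
  by_cases hr : r ∣ orderOf h
  · exact ⟨h, Subgroup.mem_zpowers h, hr⟩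
  · have hcop : (orderOf h).Coprime (orderOf w) := by
      rw [hw]; exact ((Nat.Prime.coprime_iff_not_dvd hrp).2 hr).symm
    refine ⟨h * w, ?_, ?_⟩
    · obtain ⟨m, hm⟩ := exists_pow_eq_self_of_coprime (x := h) (n := r)
        ((Nat.Prime.coprime_iff_not_dvd hrp).2 hr)
      have h1 : (h * w) ^ r = h ^ r := by
        rw [hc.symm.mul_pow, ← hw, pow_orderOf_eq_one, mul_one]
      have h2 : h = (h * w) ^ (r * m) := by rw [pow_mul, h1, hm]
      have h3 : (h * w) ^ (r * m) ∈ Subgroup.zpowers (h * w) :=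
        Subgroup.pow_mem _ (Subgroup.mem_zpowers (h * w)) _
      rwa [← h2] at h3
    · rw [hc.symm.orderOf_mul_eq_mul_orderOf_of_coprime hcop, hw]
      exact dvd_mul_left _ _

end Cfsg.Agent.Lib.Helper42.NilCov
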