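import Cfsg.Agent.Lib.Helper42.NilCov.Defs

set_option autoImplicit false

/-! NilCov farm (S3894), piece JC -/

namespace Cfsg.Agent.Lib.Helper42.NilCov

open scoped LinearAlgebra.Projectivization MatrixGroups
open Matrix

variable {n : ℕ} {F : Type*} [Field F]

/-- the nilpotent part of `Jm` -/
def JC_N (n : ℕ) (F : Type*) [Field F] : Matrix (Fin n) (Fin n) F :=
  fun i j => if i.val + 1 = j.val then 1 else 0

theorem JC_Jm_eq : Jm n F = 1 + JC_N n F := by
  ext i j
  rw [Matrix.add_apply, Matrix.one_apply]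
  unfold Jm JC_N
  by_cases h1 : i = j
  · subst h1
    simp
  · by_cases h2 : i.val + 1 = j.val
    · simp [h1, h2]
    · simp [h1, h2]

theorem JC_N_mulVec (w : Fin n → F) (i : Fin n) :
    (JC_N n F *ᵥ w) i = if h : i.val + 1 < n then w ⟨i.val + 1, h⟩ else 0 := by
  rw [Matrix.mulVec, dotProduct]
  by_cases h : i.val + 1 < n
  · rw [dif_pos h, Finset.sum_eq_single (⟨i.val + 1, h⟩ : Fin n)]
    · simp [JC_N]
    · intro b _ hb
      have h2 : ¬ (i.val + 1 = b.val) := fun h3 => hb (Fin.ext h3.symm)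
      simp [JC_N, h2]
    · intro h2
      exact absurd (Finset.mem_univ _) h2
  · rw [dif_neg h]
    apply Finset.sum_eq_zero
    intro j _
    have h2 : ¬ (i.val + 1 = j.val) := fun h3 => h (h3 ▸ j.2)
    simp [JC_N, h2]

theorem JC_N_pow_mulVec (k : ℕ) (w : Fin n → F) (i : Fin n) :
    ((JC_N n F) ^ k *ᵥ w) i = if h : i.val + k < n then w ⟨i.val + k, h⟩ else 0 := by
  induction k generalizing w with
  | zero =>
    rw [pow_zero, Matrix.one_mulVec, dif_pos (by simpa using i.2)]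
    rfl
  | succ k ih =>
    rw [pow_succ, ← Matrix.mulVec_mulVec, ih]
    by_cases h1 : i.val + k < n
    · rw [dif_pos h1, JC_N_mulVec]
      by_cases h2 : i.val + k + 1 < n
      · rw [dif_pos h2, dif_pos (by omega)]
        rfl
      · rw [dif_neg h2, dif_neg (by omega)]
    · rw [dif_neg h1, dif_neg (by omega)]

theorem JC_N_pow_eq_zero {k : ℕ} (hk : n ≤ k) : (JC_N n F) ^ k = 0 := by
  rw [Matrix.ext_iff_mulVec]
  intro w
  funext i
  rw [JC_N_pow_mulVec, dif_neg (by omega), Matrix.zero_mulVec]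
  rfl

theorem J_col (p : ℕ) [Fact p.Prime] [CharP F p] (hn : 1 ≤ n) : UCol p (Jg n F) (e0 n F) := by
  haveI : Nonempty (Fin n) := ⟨⟨0, hn⟩⟩
  refine ⟨?_, ⟨n, ?_⟩, ?_, ?_⟩
  · intro h
    have h1 := congrFun h ⟨0, hn⟩
    simp [e0] at h1
  · apply Subtype.ext
    rw [Matrix.SpecialLinearGroup.coe_pow]
    show (Jm n F) ^ p ^ n = 1
    rw [JC_Jm_eq, add_pow_char_pow_of_commute _ _ (Commute.one_left _), one_pow,
      JC_N_pow_eq_zero (Nat.lt_pow_self (Fact.out : p.Prime).one_lt).le, add_zero]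
  · show Jm n F *ᵥ e0 n F = e0 n F
    rw [JC_Jm_eq, Matrix.add_mulVec, Matrix.one_mulVec]
    funext i
    rw [Pi.add_apply, JC_N_mulVec]
    by_cases h : i.val + 1 < n
    · rw [dif_pos h]
      simp [e0]
    · rw [dif_neg h, add_zero]
  · intro w hw
    have hw' : Jm n F *ᵥ w = w := hw
    rw [JC_Jm_eq, Matrix.add_mulVec, Matrix.one_mulVec] at hw'
    have h0 : JC_N n F *ᵥ w = 0 := by
      have := hw'
      rwa [add_eq_left] at this
    refine ⟨w ⟨0, hn⟩, ?_⟩
    funext j
    rw [Pi.smul_apply, smul_eq_mul]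
    by_cases hj : j.val = 0
    · have : j = ⟨0, hn⟩ := Fin.ext hj
      subst this
      simp [e0]
    · have h1 := congrFun h0 ⟨j.val - 1, by omega⟩
      rw [JC_N_mulVec, dif_pos (by show j.val - 1 + 1 < n; omega)] at h1
      have h2 : (⟨j.val - 1 + 1, by omega⟩ : Fin n) = j := Fin.ext (by show j.val - 1 + 1 = j.val; omega)
      rw [h2] at h1
      rw [h1]
      simp [e0, hj]

end Cfsg.Agent.Lib.Helper42.NilCov
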