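import Cfsg.Agent.Lib.Helper42.NilCov.Defs
import Cfsg.Agent.Lib.Helper42.NilCov.JC

set_option autoImplicit false

/-! NilCov farm (S3894), piece JR -/

namespace Cfsg.Agent.Lib.Helper42.NilCov

open scoped LinearAlgebra.Projectivization MatrixGroups
open Matrix

variable {n : ℕ} {F : Type*} [Field F]

theorem JR_vecMul_N (w : Fin n → F) (j : Fin n) :
    (w ᵥ* JC_N n F) j = if h : 0 < j.val then w ⟨j.val - 1, by omega⟩ else 0 := by
  rw [Matrix.vecMul, dotProduct]
  by_cases h : 0 < j.val
  · rw [dif_pos h, Finset.sum_eq_single (⟨j.val - 1, by omega⟩ : Fin n)]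
    · have h2 : j.val - 1 + 1 = j.val := by omega
      simp [JC_N, h2]
    · intro b _ hb
      have h2 : ¬ (b.val + 1 = j.val) := fun h3 => hb (Fin.ext (by show b.val = j.val - 1; omega))
      simp [JC_N, h2]
    · intro h2
      exact absurd (Finset.mem_univ _) h2
  · rw [dif_neg h]
    apply Finset.sum_eq_zero
    intro i _
    have h2 : ¬ (i.val + 1 = j.val) := fun h3 => h (by omega)
    simp [JC_N, h2]

theorem J_row (hn : 1 ≤ n) : URow (Jg n F) (eL n F) := by
  refine ⟨?_, ?_, ?_⟩
  · intro h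
    have h1 := congrFun h ⟨n - 1, by omega⟩
    have h2 : n - 1 + 1 = n := by omega
    simp [eL, h2] at h1
  · show eL n F ᵥ* Jm n F = eL n F
    rw [JC_Jm_eq, Matrix.vecMul_add, Matrix.vecMul_one]
    funext j
    rw [Pi.add_apply, JR_vecMul_N]
    by_cases h : 0 < j.val
    · rw [dif_pos h]
      have h2 : ¬ (j.val - 1 + 1 = n) := by have := j.2; omega
      simp [eL, h2]
    · rw [dif_neg h, add_zero]
  · intro w hw
    have hw' : w ᵥ* Jm n F = w := hw
    rw [JC_Jm_eq, Matrix.vecMul_add, Matrix.vecMul_one] at hw'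
    have h0 : w ᵥ* JC_N n F = 0 := by
      have := hw'
      rwa [add_eq_left] at this
    refine ⟨w ⟨n - 1, by omega⟩, ?_⟩
    funext j
    rw [Pi.smul_apply, smul_eq_mul]
    by_cases hj : j.val + 1 = n
    · have h3 : (⟨n - 1, by omega⟩ : Fin n) = j := Fin.ext (by show n - 1 = j.val; omega)
      rw [h3]
      simp [eL, hj]
    · have hlt : j.val + 1 < n := by have := j.2; omega
      have h1 := congrFun h0 ⟨j.val + 1, hlt⟩
      rw [JR_vecMul_N, dif_pos (by show 0 < j.val + 1; omega)] at h1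
      have h2 : (⟨j.val + 1 - 1, by omega⟩ : Fin n) = j := Fin.ext (by show j.val + 1 - 1 = j.val; omega)
      rw [h2] at h1
      rw [h1]
      simp [eL, hj]

end Cfsg.Agent.Lib.Helper42.NilCov
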