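import Cfsg.Agent.Lib.Helper42.NilCov.Defs

set_option autoImplicit false

/-! NilCov farm (S3894), piece LB -/

namespace Cfsg.Agent.Lib.Helper42.NilCov

open scoped LinearAlgebra.Projectivization MatrixGroups
open Matrix

variable {n : ℕ} {F : Type*} [Field F]

theorem lemB {A : Type*} [Group A] [Finite A] (hA : Group.IsNilpotent A) {Ω : Type*} [Finite Ω]
    [MulAction A Ω] (r : ℕ) [Fact r.Prime] (t : A) (ht : ∃ k : ℕ, t ^ r ^ k = 1)
    (hlt : Nat.card (MulAction.fixedBy Ω t) < r)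
    (hmod : Nat.card Ω ≡ Nat.card (MulAction.fixedBy Ω t) [MOD r]) :
    ∀ a : A, ∀ x : Ω, t • x = x → t • (a • x) = a • x := by
  have hnorm : ∀ (p : ℕ) (_ : Fact p.Prime) (P : Sylow p A), (P : Subgroup A).Normal :=
    (Group.isNilpotent_of_finite_tfae.out 0 3).1 hA
  -- a Sylow subgroup containing `t`
  have hZ : IsPGroup r (Subgroup.zpowers t) := by
    obtain ⟨k, hk⟩ := ht
    rintro ⟨g, hg⟩
    obtain ⟨m, rfl⟩ := Subgroup.mem_zpowers_iff.1 hg
    refine ⟨k, Subtype.ext ?_⟩
    show (t ^ m) ^ r ^ k = 1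
    rw [← zpow_natCast, ← _root_.zpow_mul, mul_comm, _root_.zpow_mul, zpow_natCast, hk, _root_.one_zpow]
  obtain ⟨R, hR⟩ := hZ.exists_le_sylow
  have htR : t ∈ (R : Subgroup A) := hR (Subgroup.mem_zpowers t)
  have hRn : (R : Subgroup A).Normal := hnorm r inferInstance R
  -- fixed points
  have hsub : MulAction.fixedPoints (R : Subgroup A) Ω ⊆ MulAction.fixedBy Ω t := by
    intro x hx
    exact hx ⟨t, htR⟩
  have hcong : Nat.card Ω ≡ Nat.card (MulAction.fixedPoints (R : Subgroup A) Ω) [MOD r] :=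
    R.2.card_modEq_card_fixedPoints Ω
  have hle : Nat.card (MulAction.fixedPoints (R : Subgroup A) Ω) ≤ Nat.card (MulAction.fixedBy Ω t) :=
    Nat.card_mono (Set.toFinite _) hsub
  have hcard : Nat.card (MulAction.fixedPoints (R : Subgroup A) Ω) = Nat.card (MulAction.fixedBy Ω t) := by
    have h1 := hcong.symm.trans hmod
    exact Nat.ModEq.eq_of_lt_of_lt h1 (lt_of_le_of_lt hle hlt) hlt
  have heq : MulAction.fixedPoints (R : Subgroup A) Ω = MulAction.fixedBy Ω t := by
    apply Set.eq_of_subset_of_ncard_le hsub _ (Set.toFinite _)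
    rw [← Nat.card_coe_set_eq, ← Nat.card_coe_set_eq, hcard]
  intro a x hx
  have hx' : x ∈ MulAction.fixedPoints (R : Subgroup A) Ω := by
    rw [heq]; exact hx
  have hax : a • x ∈ MulAction.fixedPoints (R : Subgroup A) Ω := by
    intro g
    have hg : a⁻¹ * (g : A) * a ∈ (R : Subgroup A) := by
      have := hRn.conj_mem (g : A) g.2 a⁻¹
      rwa [inv_inv] at this
    have h2 : (a⁻¹ * (g : A) * a) • x = x := hx' ⟨_, hg⟩
    show (g : A) • (a • x) = a • x
    calc (g : A) • (a • x) = a • ((a⁻¹ * (g : A) * a) • x) := by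
          rw [smul_smul, smul_smul]; congr 1; group
      _ = a • x := by rw [h2]
  exact hsub hax

end Cfsg.Agent.Lib.Helper42.NilCov
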