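import Cfsg.Agent.Lib.Helper42.NilCov.Defs

set_option autoImplicit false

/-! NilCov farm (S3894), piece LN -/

namespace Cfsg.Agent.Lib.Helper42.NilCov

open scoped LinearAlgebra.Projectivization MatrixGroups
open Matrix

variable {n : ℕ} {F : Type*} [Field F]

theorem lift_nil [Fintype F] (N : Subgroup (PG n F)) (hN : Group.IsNilpotent ↥N) :
    Group.IsNilpotent ↥(N.comap (QuotientGroup.mk' (Subgroup.center (GL (Fin n) F)))) := by
  let f : ↥(N.comap (QuotientGroup.mk' (Subgroup.center (GL (Fin n) F)))) →* ↥N :=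
    (QuotientGroup.mk' (Subgroup.center (GL (Fin n) F))).subgroupComap N
  have : Group.IsNilpotent ↥N := hN
  refine Subgroup.isNilpotent_of_ker_le_center f ?_
  intro x hx
  rw [MonoidHom.mem_ker] at hx
  have h1 : (QuotientGroup.mk' (Subgroup.center (GL (Fin n) F))) (x : GL (Fin n) F) = 1 :=
    congrArg Subtype.val hx
  rw [← MonoidHom.mem_ker, QuotientGroup.ker_mk'] at h1
  rw [Subgroup.mem_center_iff]
  intro y
  apply Subtype.ext
  exact Subgroup.mem_center_iff.1 h1 (y : GL (Fin n) F)

end Cfsg.Agent.Lib.Helper42.NilCov
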