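import Cfsg.Agent.Lib.Helper42.NilCov.Defs

set_option autoImplicit false

namespace Cfsg.Agent.Lib.Helper42.NilCov

open scoped LinearAlgebra.Projectivization MatrixGroups
open Matrix

variable {n : ℕ} {F : Type*} [Field F]

theorem smul_mk_eq_iff (g : GL (Fin n) F) {v : Fin n → F} (hv : v ≠ 0) :
    (QuotientGroup.mk' (Subgroup.center (GL (Fin n) F)) g : PG n F) • Projectivization.mk F v hv =
      Projectivization.mk F v hv ↔ ∃ c : F, (g : Matrix (Fin n) (Fin n) F) *ᵥ v = c • v := by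
  rw [mk_smul_mk, Projectivization.mk_eq_mk_iff']
  constructor
  · rintro ⟨a, ha⟩
    exact ⟨a, ha.symm⟩
  · rintro ⟨a, ha⟩
    exact ⟨a, ha.symm⟩

end Cfsg.Agent.Lib.Helper42.NilCov
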