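import Cfsg.Agent.Lib.Helper42.NilCov.Defs
import Cfsg.Agent.Lib.Helper42.NilCov.PT
import Cfsg.Agent.Lib.Helper42.NilCov.EVC
set_option autoImplicit false

namespace Cfsg.Agent.Lib.Helper42.NilCov

open scoped LinearAlgebra.Projectivization MatrixGroups
open Matrix

variable {n : ℕ} {F : Type*} [Field F]

theorem ufix_of_ucol (p : ℕ) [Fact p.Prime] [CharP F p] (u : Matrix.SpecialLinearGroup (Fin n) F)
    (v : Fin n → F) (h : UCol p u v) : UFix p (im u) (Projectivization.mk F v h.1) := by
  obtain ⟨hv, ⟨k, hk⟩, huv, hall⟩ := h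
  refine ⟨⟨k, ?_⟩, fun y => ?_⟩
  · unfold im
    rw [← map_pow, ← map_pow, hk, map_one, map_one]
  · induction y using Projectivization.ind with
    | h w hw =>
      unfold im
      rw [smul_mk_eq_iff]
      constructor
      · rintro ⟨c, hc⟩
        have hc' : (u : Matrix (Fin n) (Fin n) F) *ᵥ w = c • w := hc
        have hk' : (u : Matrix (Fin n) (Fin n) F) ^ p ^ k = 1 := by
          rw [← Matrix.SpecialLinearGroup.coe_pow, hk]; rfl
        have hc1 := ev_col p _ k hk' w hw c hc'
        rw [hc1, one_smul] at hc'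
        obtain ⟨d, hd⟩ := hall w hc'
        rw [Projectivization.mk_eq_mk_iff']
        exact ⟨d, hd.symm⟩
      · intro hy
        rw [Projectivization.mk_eq_mk_iff'] at hy
        obtain ⟨a, ha⟩ := hy
        refine ⟨1, ?_⟩
        show (u : Matrix (Fin n) (Fin n) F) *ᵥ w = (1 : F) • w
        rw [← ha, Matrix.mulVec_smul, huv, one_smul]

end Cfsg.Agent.Lib.Helper42.NilCov
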