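import Cfsg.Agent.Lib.Helper42.NilCov.Defs

set_option autoImplicit false

/-! NilCov farm (S3894), piece SS -/

namespace Cfsg.Agent.Lib.Helper42.NilCov

open scoped LinearAlgebra.Projectivization MatrixGroups
open Matrix

variable {n : ℕ} {F : Type*} [Field F]

theorem exists_s (hn : 3 ≤ n) : ∃ s : GL (Fin n) F, (s : Matrix (Fin n) (Fin n) F) *ᵥ e0 n F = e0 n F ∧
    ¬ ∃ d : F, eL n F ᵥ* ((s⁻¹ : GL (Fin n) F) : Matrix (Fin n) (Fin n) F) = d • eL n F := by
  let i : Fin n := ⟨n - 1, by omega⟩
  let j : Fin n := ⟨n - 2, by omega⟩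
  have hij : i ≠ j := by
    intro h
    have := congrArg Fin.val h
    simp only [i, j] at this
    omega
  have h1 : Matrix.transvection i j (1 : F) * Matrix.transvection i j (-1 : F) = 1 := by
    rw [Matrix.transvection_mul_transvection_same (i := i) (j := j) hij, add_neg_cancel, Matrix.transvection_zero]
  have h2 : Matrix.transvection i j (-1 : F) * Matrix.transvection i j (1 : F) = 1 := by
    rw [Matrix.transvection_mul_transvection_same (i := i) (j := j) hij, neg_add_cancel, Matrix.transvection_zero]
  refine ⟨⟨Matrix.transvection i j 1, Matrix.transvection i j (-1), h1, h2⟩, ?_, ?_⟩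
  · show Matrix.transvection i j (1 : F) *ᵥ e0 n F = e0 n F
    have hj0 : e0 n F j = 0 := by
      simp only [e0, j]
      rw [if_neg (by omega)]
    rw [Matrix.transvection, Matrix.add_mulVec, Matrix.one_mulVec]
    have h3 : Matrix.single i j (1 : F) *ᵥ e0 n F = 0 := by
      funext k
      show ∑ l, Matrix.single i j (1 : F) k l * e0 n F l = 0
      apply Finset.sum_eq_zero
      intro l _
      by_cases hl : j = l
      · rw [← hl, hj0, mul_zero]
      · rw [Matrix.single_apply, if_neg (fun h => hl h.2), zero_mul]
    rw [h3, add_zero]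
  · rintro ⟨d, hd⟩
    have hd' : eL n F ᵥ* Matrix.transvection i j (-1 : F) = d • eL n F := hd
    have h3 := congrFun hd' j
    have hLj : eL n F j = 0 := by
      simp only [eL, j]
      rw [if_neg (by omega)]
    have hLi : eL n F i = 1 := by
      simp only [eL, i]
      rw [if_pos (by omega)]
    rw [Matrix.transvection, Matrix.vecMul_add, Matrix.vecMul_one, Pi.add_apply, Pi.smul_apply, hLj,
      smul_zero, zero_add] at h3
    have h4 : (eL n F ᵥ* Matrix.single i j (-1 : F)) j = -1 := by
      show ∑ l, eL n F l * Matrix.single i j (-1 : F) l j = -1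
      rw [Finset.sum_eq_single i]
      · rw [hLi, Matrix.single_apply_same, one_mul]
      · intro l _ hl
        rw [Matrix.single_apply, if_neg (fun h => hl h.1.symm), mul_zero]
      · intro h
        exact absurd (Finset.mem_univ i) h
    rw [h4] at h3
    exact one_ne_zero (neg_eq_zero.mp h3)

end Cfsg.Agent.Lib.Helper42.NilCov
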