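import Cfsg.Agent.Lib.Helper42.NilCov.Defs
import Cfsg.Agent.Lib.Helper42.NilCov.JC
import Cfsg.Agent.Lib.Helper42.NilCov.JR
import Cfsg.Agent.Lib.Helper42.NilCov.CJC
import Cfsg.Agent.Lib.Helper42.NilCov.CJR
import Cfsg.Agent.Lib.Helper42.NilCov.SS
import Cfsg.Agent.Lib.Helper42.NilCov.FR
import Cfsg.Agent.Lib.Helper42.NilCov.EVR
import Cfsg.Agent.Lib.Helper42.NilCov.LN
import Cfsg.Agent.Lib.Helper42.NilCov.PU

set_option autoImplicit false

/-! NilCov farm (S3894), piece NC -/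

namespace Cfsg.Agent.Lib.Helper42.NilCov

open scoped LinearAlgebra.Projectivization MatrixGroups
open Matrix

variable {n : ℕ} {F : Type*} [Field F]

theorem NC [Fintype F] (p : ℕ) [Fact p.Prime] [CharP F p] (hn : 3 ≤ n) :
    ∃ (x₀ : ℙ F (Fin n → F)) (u u' : Matrix.SpecialLinearGroup (Fin n) F),
      UFix p (im u) x₀ ∧ UFix p (im u') x₀ ∧
      ∀ N : Subgroup (PG n F), Group.IsNilpotent ↥N → im u ∈ N → im u' ∈ N → False := by
  have hn1 : 1 ≤ n := by omega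
  obtain ⟨s, hs1, hs2⟩ := exists_s (F := F) hn
  have hJ := J_col (F := F) p hn1
  have hJ' : UCol p (cj s (Jg n F)) (e0 n F) := by
    have := cj_col p s (Jg n F) (e0 n F) hJ
    rwa [hs1] at this
  have hR := J_row (F := F) hn1
  have hR' := cj_row s (Jg n F) (eL n F) hR
  refine ⟨Projectivization.mk F (e0 n F) hJ.1, Jg n F, cj s (Jg n F), ufix_of_ucol p _ _ hJ,
    ufix_of_ucol p _ _ hJ', ?_⟩
  intro N hN hu hu'
  have hN' := lift_nil N hN
  have h1 := fix_row p _ hN' (Jg n F) hJ.2.1 (Subgroup.mem_comap.2 hu) (eL n F) hR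
    (Matrix.SpecialLinearGroup.toGL (cj s (Jg n F))) (Subgroup.mem_comap.2 hu')
  obtain ⟨c, hc⟩ := h1
  have hc' : eL n F ᵥ* ((cj s (Jg n F) : Matrix.SpecialLinearGroup (Fin n) F) : Matrix (Fin n) (Fin n) F) =
      c • eL n F := hc
  obtain ⟨k, hk⟩ := hJ'.2.1
  have hk' : ((cj s (Jg n F) : Matrix.SpecialLinearGroup (Fin n) F) : Matrix (Fin n) (Fin n) F) ^ p ^ k = 1 := by
    rw [← Matrix.SpecialLinearGroup.coe_pow, hk]; rfl
  have hc1 : c = 1 := ev_row p _ k hk' (eL n F) hR.1 c hc'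
  rw [hc1, one_smul] at hc'
  obtain ⟨d, hd⟩ := hR'.2.2 _ hc'
  have hd0 : d ≠ 0 := by
    rintro rfl
    rw [zero_smul] at hd
    exact hR.1 hd
  apply hs2
  refine ⟨d⁻¹, ?_⟩
  conv_rhs => rw [hd]
  rw [smul_smul, inv_mul_cancel₀ hd0, one_smul]

end Cfsg.Agent.Lib.Helper42.NilCov
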