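import Cfsg.Agent.Lib.Helper42.NilCov.Defs

set_option autoImplicit false

/-! NilCov farm (S3894), piece ODD2 -/

namespace Cfsg.Agent.Lib.Helper42.NilCov

open scoped LinearAlgebra.Projectivization MatrixGroups
open Matrix

variable {n : ℕ} {F : Type*} [Field F]

theorem odd2 {A Ω : Type*} [Group A] [MulAction A Ω] (s : A) (m : ℕ) (hm : Odd m) (hs : s ^ m = 1)
    (x₀ x₁ : Ω) (h0 : s • x₀ = x₀ ∨ s • x₀ = x₁) (h1 : s • x₁ = x₀ ∨ s • x₁ = x₁) : s • x₀ = x₀ := by
  rcases h0 with h0 | h0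
  · exact h0
  rcases h1 with h1 | h1
  · obtain ⟨j, rfl⟩ := hm
    have h2 : ∀ i : ℕ, (s ^ (2 * i)) • x₀ = x₀ := by
      intro i
      induction i with
      | zero => simp
      | succ i ih =>
        rw [Nat.mul_succ, pow_add, mul_smul, pow_two, mul_smul, h0, h1, ih]
    have h3 : (s ^ (2 * j + 1)) • x₀ = x₁ := by
      rw [pow_succ, mul_smul, h0]
      have h4 : ∀ i : ℕ, (s ^ (2 * i)) • x₁ = x₁ := by
        intro i
        induction i with
        | zero => simp
        | succ i ih =>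
          rw [Nat.mul_succ, pow_add, mul_smul, pow_two, mul_smul, h1, h0, ih]
      exact h4 j
    rw [hs, one_smul] at h3
    rw [h0, h3]
  · have h2 : x₀ = x₁ := MulAction.injective s (h0.trans h1.symm)
    rw [h0, h2]

end Cfsg.Agent.Lib.Helper42.NilCov
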