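import Cfsg.Agent.Lib.Helper42.NilCov.Defs

set_option autoImplicit false

/-! NilCov farm (S3894), piece P3 -/

namespace Cfsg.Agent.Lib.Helper42.NilCov

open scoped LinearAlgebra.Projectivization MatrixGroups
open Matrix

variable {n : ℕ} {F : Type*} [Field F]

theorem P3_eig (g : GL (Fin 2) F) (v : Fin 2 → F) (hv : v ≠ 0)
    (h : (QuotientGroup.mk' (Subgroup.center (GL (Fin 2) F)) g : PG 2 F) • Projectivization.mk F v hv
      = Projectivization.mk F v hv) :
    v 0 * ((g : Matrix (Fin 2) (Fin 2) F) 1 0 * v 0 + (g : Matrix (Fin 2) (Fin 2) F) 1 1 * v 1) -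
      v 1 * ((g : Matrix (Fin 2) (Fin 2) F) 0 0 * v 0 + (g : Matrix (Fin 2) (Fin 2) F) 0 1 * v 1) = 0 := by
  rw [mk_smul_mk, Projectivization.mk_eq_mk_iff'] at h
  obtain ⟨a, ha⟩ := h
  have h0 := congrFun ha 0
  have h1 := congrFun ha 1
  simp only [Matrix.mulVec, dotProduct, Fin.sum_univ_two, Pi.smul_apply, smul_eq_mul] at h0 h1
  rw [← h0, ← h1]
  ring

theorem P3_det (v w : Fin 2 → F) (hv : v ≠ 0) (hw : w ≠ 0)
    (h : Projectivization.mk F v hv ≠ Projectivization.mk F w hw) : v 0 * w 1 - v 1 * w 0 ≠ 0 := by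
  intro hD
  apply h
  rw [Projectivization.mk_eq_mk_iff']
  by_cases h0 : w 0 = 0
  · have h1 : w 1 ≠ 0 := by
      intro h1
      apply hw
      funext i
      fin_cases i
      · exact h0
      · exact h1
    refine ⟨v 1 / w 1, ?_⟩
    funext i
    fin_cases i
    · simp only [Fin.zero_eta, Pi.smul_apply, smul_eq_mul, h0, mul_zero]
      rw [h0, mul_zero, sub_zero] at hD
      exact ((mul_eq_zero.1 hD).resolve_right h1).symm
    · simp only [Fin.mk_one, Pi.smul_apply, smul_eq_mul]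
      field_simp
  · refine ⟨v 0 / w 0, ?_⟩
    funext i
    fin_cases i
    · simp only [Fin.zero_eta, Pi.smul_apply, smul_eq_mul]
      field_simp
    · simp only [Fin.mk_one, Pi.smul_apply, smul_eq_mul]
      field_simp
      linear_combination hD

theorem three_pts (g : PG 2 F) (x y z : ℙ F (Fin 2 → F)) (hxy : x ≠ y) (hxz : x ≠ z) (hyz : y ≠ z)
    (hx : g • x = x) (hy : g • y = y) (hz : g • z = z) : g = 1 := by
  obtain ⟨g, rfl⟩ := QuotientGroup.mk'_surjective _ g
  induction x using Projectivization.ind with | h v1 h1 => ?_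
  induction y using Projectivization.ind with | h v2 h2 => ?_
  induction z using Projectivization.ind with | h v3 h3 => ?_
  have e1 := P3_eig g v1 h1 hx
  have e2 := P3_eig g v2 h2 hy
  have e3 := P3_eig g v3 h3 hz
  have d12 := P3_det v1 v2 h1 h2 hxy
  have d13 := P3_det v1 v3 h1 h3 hxz
  have d23 := P3_det v2 v3 h2 h3 hyz
  set a := (g : Matrix (Fin 2) (Fin 2) F) 0 0 with ha
  set b := (g : Matrix (Fin 2) (Fin 2) F) 0 1 with hb
  set c := (g : Matrix (Fin 2) (Fin 2) F) 1 0 with hc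
  set d := (g : Matrix (Fin 2) (Fin 2) F) 1 1 with hd
  have hP : (v1 0 * v2 1 - v1 1 * v2 0) * (v1 0 * v3 1 - v1 1 * v3 0) * (v2 0 * v3 1 - v2 1 * v3 0) ≠ 0 :=
    mul_ne_zero (mul_ne_zero d12 d13) d23
  have hc0 : c = 0 := by
    have : c * ((v1 0 * v2 1 - v1 1 * v2 0) * (v1 0 * v3 1 - v1 1 * v3 0) * (v2 0 * v3 1 - v2 1 * v3 0)) = 0 := by
      linear_combination (v2 1 * v3 1 * (v2 0 * v3 1 - v2 1 * v3 0)) * e1
        - (v1 1 * v3 1 * (v1 0 * v3 1 - v1 1 * v3 0)) * e2
        + (v1 1 * v2 1 * (v1 0 * v2 1 - v1 1 * v2 0)) * e3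
    exact (mul_eq_zero.1 this).resolve_right hP
  have hb0 : b = 0 := by
    have : b * ((v1 0 * v2 1 - v1 1 * v2 0) * (v1 0 * v3 1 - v1 1 * v3 0) * (v2 0 * v3 1 - v2 1 * v3 0)) = 0 := by
      linear_combination (-(v2 0 * v3 0 * (v2 0 * v3 1 - v2 1 * v3 0))) * e1
        + (v1 0 * v3 0 * (v1 0 * v3 1 - v1 1 * v3 0)) * e2
        - (v1 0 * v2 0 * (v1 0 * v2 1 - v1 1 * v2 0)) * e3
    exact (mul_eq_zero.1 this).resolve_right hP
  have hda : d = a := by
    rw [hc0, hb0] at e1 e2 e3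
    -- (d - a) x y = 0 for the three vectors
    by_contra hne
    have hne' : d - a ≠ 0 := sub_ne_zero.2 hne
    have f1 : v1 0 * v1 1 = 0 := by
      have : (d - a) * (v1 0 * v1 1) = 0 := by linear_combination e1
      exact (mul_eq_zero.1 this).resolve_left hne'
    have f2 : v2 0 * v2 1 = 0 := by
      have : (d - a) * (v2 0 * v2 1) = 0 := by linear_combination e2
      exact (mul_eq_zero.1 this).resolve_left hne'
    have f3 : v3 0 * v3 1 = 0 := by
      have : (d - a) * (v3 0 * v3 1) = 0 := by linear_combination e3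
      exact (mul_eq_zero.1 this).resolve_left hne'
    rcases mul_eq_zero.1 f1 with g1 | g1 <;> rcases mul_eq_zero.1 f2 with g2 | g2 <;>
      rcases mul_eq_zero.1 f3 with g3 | g3 <;> simp [g1, g2, g3] at d12 d13 d23
  rw [QuotientGroup.mk'_apply, QuotientGroup.eq_one_iff, Subgroup.mem_center_iff]
  intro h
  apply Units.ext
  have hg : (g : Matrix (Fin 2) (Fin 2) F) = a • (1 : Matrix (Fin 2) (Fin 2) F) := by
    ext i j
    fin_cases i <;> fin_cases j
    · simp [ha]
    · simpa using hb0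
    · simpa using hc0
    · simpa using hda
  rw [Units.val_mul, Units.val_mul, hg]
  simp

end Cfsg.Agent.Lib.Helper42.NilCov
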