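import Cfsg.Agent.Lib.Helper42.NilCov.Defs
import Cfsg.Agent.Lib.Helper42.NilCov.PT
set_option autoImplicit false

namespace Cfsg.Agent.Lib.Helper42.NilCov

open scoped LinearAlgebra.Projectivization MatrixGroups
open Matrix

variable {n : ℕ} {F : Type*} [Field F]

theorem exists_moves (hn : 2 ≤ n) (x : ℙ F (Fin n → F)) :
    ∃ u : Matrix.SpecialLinearGroup (Fin n) F, im u • x ≠ x := by
  induction x using Projectivization.ind with
  | h v hv =>
    obtain ⟨i, hi⟩ : ∃ i, v i ≠ 0 := by
      by_contra hcon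
      push Not at hcon
      exact hv (funext hcon)
    obtain ⟨j, hj⟩ : ∃ j : Fin n, j ≠ i := by
      by_cases h0 : i.val = 0
      · exact ⟨⟨1, by omega⟩, fun h => by rw [← h] at h0; simp at h0⟩
      · exact ⟨⟨0, by omega⟩, fun h => by rw [← h] at h0; simp at h0⟩
    refine ⟨⟨Matrix.transvection j i 1, Matrix.det_transvection_of_ne j i hj 1⟩, ?_⟩
    unfold im
    rw [Ne, smul_mk_eq_iff]
    rintro ⟨c, hc⟩
    have hc' : (Matrix.transvection j i (1 : F)) *ᵥ v = c • v := hc
    have e1 := congrFun hc' i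
    have e2 := congrFun hc' j
    simp only [Matrix.transvection, Matrix.add_mulVec, Matrix.one_mulVec, Pi.add_apply,
      Matrix.single_mulVec, Pi.smul_apply, smul_eq_mul] at e1 e2
    simp [hj.symm, hj] at e1 e2
    have hc1 : c = 1 := by
      have : (c - 1) * v i = 0 := by rw [sub_mul, one_mul, ← e1, sub_self]
      exact sub_eq_zero.1 ((mul_eq_zero.1 this).resolve_right hi)
    rw [hc1, one_mul] at e2
    exact hi (by simpa using e2)

end Cfsg.Agent.Lib.Helper42.NilCov
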