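import Cfsg.Agent.Lib.Helper42.NilCov.Defs

set_option autoImplicit false

namespace Cfsg.Agent.Lib.Helper42.NilCov

open scoped LinearAlgebra.Projectivization MatrixGroups
open Matrix

variable {n : ℕ} {F : Type*} [Field F]

theorem split {A : Type*} [Group A] [Finite A] (r : ℕ) [Fact r.Prime] (s : A) :
    ∃ a b : A, s = a * b ∧ (∃ k : ℕ, a ^ r ^ k = 1) ∧ (orderOf b).Coprime r ∧
      a ∈ Subgroup.zpowers s ∧ b ∈ Subgroup.zpowers s := by
  have hrp : r.Prime := Fact.out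
  obtain ⟨k, m, hm, hkm⟩ := Nat.exists_eq_pow_mul_and_not_dvd (orderOf_pos s).ne' r hrp.ne_one
  have hcop : Nat.Coprime (r ^ k) m := Nat.Coprime.pow_left _ ((Nat.Prime.coprime_iff_not_dvd hrp).2 hm)
  have hb := Nat.gcd_eq_gcd_ab (r ^ k) m
  rw [hcop] at hb
  refine ⟨s ^ ((m : ℤ) * Nat.gcdB (r ^ k) m), s ^ (((r ^ k : ℕ) : ℤ) * Nat.gcdA (r ^ k) m), ?_, ⟨k, ?_⟩,
    ?_, Subgroup.zpow_mem_zpowers _ _, Subgroup.zpow_mem_zpowers _ _⟩
  · rw [← _root_.zpow_add, add_comm, ← hb]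
    simp
  · rw [← zpow_natCast, ← _root_.zpow_mul]
    have : (m : ℤ) * Nat.gcdB (r ^ k) m * ((r ^ k : ℕ) : ℤ) = ((orderOf s : ℕ) : ℤ) * Nat.gcdB (r ^ k) m := by
      rw [hkm]; push_cast; ring
    rw [this, _root_.zpow_mul, zpow_natCast, pow_orderOf_eq_one, _root_.one_zpow]
  · have h1 : (s ^ (((r ^ k : ℕ) : ℤ) * Nat.gcdA (r ^ k) m)) ^ m = 1 := by
      rw [← zpow_natCast, ← _root_.zpow_mul]
      have : ((r ^ k : ℕ) : ℤ) * Nat.gcdA (r ^ k) m * (m : ℤ) = ((orderOf s : ℕ) : ℤ) * Nat.gcdA (r ^ k) m := by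
        rw [hkm]; push_cast; ring
      rw [this, _root_.zpow_mul, zpow_natCast, pow_orderOf_eq_one, _root_.one_zpow]
    exact Nat.Coprime.coprime_dvd_left (orderOf_dvd_of_pow_eq_one h1)
      ((Nat.Prime.coprime_iff_not_dvd hrp).2 hm).symm

end Cfsg.Agent.Lib.Helper42.NilCov
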