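import Cfsg.Agent.Lib.Helper42.NilCov.Defs
import Cfsg.Agent.Lib.Helper42.NilCov.LB

set_option autoImplicit false

/-! NilCov farm (S3894), piece STB -/

namespace Cfsg.Agent.Lib.Helper42.NilCov

open scoped LinearAlgebra.Projectivization MatrixGroups
open Matrix

variable {n : ℕ} {F : Type*} [Field F]

theorem le_stab {Γ Ω : Type*} [Group Γ] [Finite Γ] [MulAction Γ Ω] [Finite Ω] (p : ℕ) [Fact p.Prime]
    (hcard : Nat.card Ω ≡ 1 [MOD p]) (A : Subgroup Γ) (hA : Group.IsNilpotent ↥A) (u : Γ) (x : Ω)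
    (hu : UFix p u x) (huA : u ∈ A) : A ≤ MulAction.stabilizer Γ x := by
  have hp : 1 < p := (Fact.out : p.Prime).one_lt
  have hfix : MulAction.fixedBy Ω (⟨u, huA⟩ : ↥A) = {x} := by
    ext y
    exact hu.2 y
  have hc1 : Nat.card (MulAction.fixedBy Ω (⟨u, huA⟩ : ↥A)) = 1 := by
    rw [hfix, Nat.card_coe_set_eq, Set.ncard_singleton]
  have ht : ∃ k : ℕ, (⟨u, huA⟩ : ↥A) ^ p ^ k = 1 := by
    obtain ⟨k, hk⟩ := hu.1
    exact ⟨k, Subtype.ext hk⟩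
  have key := lemB hA (Ω := Ω) p (⟨u, huA⟩ : ↥A) ht (by rw [hc1]; exact hp) (by rw [hc1]; exact hcard)
  intro a ha
  rw [MulAction.mem_stabilizer_iff]
  have h1 := key ⟨a, ha⟩ x ((hu.2 x).2 rfl)
  exact (hu.2 (a • x)).1 h1

end Cfsg.Agent.Lib.Helper42.NilCov
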