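import Cfsg.Agent.Lib.Helper42.NilCov.Defs
import Cfsg.Agent.Lib.Helper42.NilCov.CORE
import Cfsg.Agent.Lib.Helper42.NilCov.STB
import Cfsg.Agent.Lib.Helper42.NilCov.LB
import Cfsg.Agent.Lib.Helper42.NilCov.COP
import Cfsg.Agent.Lib.Helper42.NilCov.ODD2
import Cfsg.Agent.Lib.Helper42.NilCov.SPLIT

set_option autoImplicit false

/-! NilCov farm (S3894), piece T2I -/

namespace Cfsg.Agent.Lib.Helper42.NilCov

open scoped LinearAlgebra.Projectivization MatrixGroups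
open Matrix

variable {n : ℕ} {F : Type*} [Field F]

theorem T2I {Γ Ω : Type*} [Group Γ] [Finite Γ] [MulAction Γ Ω] [Finite Ω] (p r : ℕ) [Fact p.Prime]
    [Fact r.Prime] (hr : r ≠ 2)
    (hcard : Nat.card Ω ≡ 1 [MOD p]) (hcard2 : Nat.card Ω ≡ 2 [MOD r])
    (hstab : ∀ x : Ω, MulAction.stabilizer Γ x ≠ ⊤)
    (hU : ∀ x : Ω, ∃ u : Γ, UFix p u x)
    (t : Γ) (x₀ x₁ : Ω) (hx : x₀ ≠ x₁) (htr : t ^ r = 1)
    (hfix : ∀ y : Ω, t • y = y ↔ y = x₀ ∨ y = x₁)
    (he : ∀ s : Γ, Commute s t → s • x₀ = x₀) : ¬ NilMinCover Γ := by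
  rintro ⟨𝓐, ⟨hprop, hcov⟩, hmin, hnil⟩
  have hrp : r.Prime := Fact.out
  have hr3 : 2 < r := lt_of_le_of_ne hrp.two_le (Ne.symm hr)
  have hrodd : Odd r := hrp.odd_of_ne_two hr
  choose u hu using hU
  choose Ax hAx huAx using fun x => hcov (u x)
  obtain ⟨At, hAt, htAt⟩ := hcov t
  have hAxs : ∀ x, Ax x ≤ MulAction.stabilizer Γ x := fun x =>
    le_stab p hcard (Ax x) (hnil _ (hAx x)) (u x) x (hu x) (huAx x)
  -- the fixed points of `t`
  have hfb : MulAction.fixedBy Ω (⟨t, htAt⟩ : ↥At) = {x₀, x₁} := by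
    ext y
    rw [MulAction.mem_fixedBy]
    exact hfix y
  have hfc : Nat.card (MulAction.fixedBy Ω (⟨t, htAt⟩ : ↥At)) = 2 := by
    rw [hfb, Nat.card_coe_set_eq, Set.ncard_pair hx]
  -- `A_t` preserves `{x₀, x₁}`
  have hpres : ∀ s ∈ At, ∀ y : Ω, t • y = y → t • (s • y) = s • y := by
    intro s hs y hy
    have h1 := lemB (A := ↥At) (hnil _ hAt) (Ω := Ω) r ⟨t, htAt⟩
      ⟨1, by rw [pow_one]; exact Subtype.ext htr⟩ (by rw [hfc]; exact hr3)
      (by rw [hfc]; exact hcard2) ⟨s, hs⟩ y hy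
    exact h1
  have hpr0 : ∀ s ∈ At, s • x₀ = x₀ ∨ s • x₀ = x₁ := fun s hs =>
    (hfix _).1 (hpres s hs x₀ ((hfix _).2 (Or.inl rfl)))
  have hpr1 : ∀ s ∈ At, s • x₁ = x₀ ∨ s • x₁ = x₁ := fun s hs =>
    (hfix _).1 (hpres s hs x₁ ((hfix _).2 (Or.inr rfl)))
  -- `A_t` fixes `x₀`
  have hAt0 : ∀ s ∈ At, s • x₀ = x₀ := by
    intro s hs
    obtain ⟨a, b, hsab, ⟨k, hak⟩, hb, haz, hbz⟩ := split r s
    have hzle : Subgroup.zpowers s ≤ At := (Subgroup.zpowers_le).2 hs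
    have haA : a ∈ At := hzle haz
    have hbA : b ∈ At := hzle hbz
    have hcop : (orderOf (⟨b, hbA⟩ : ↥At)).Coprime (orderOf (⟨t, htAt⟩ : ↥At)) := by
      rw [Subgroup.orderOf_mk, Subgroup.orderOf_mk]
      exact Nat.Coprime.coprime_dvd_right (orderOf_dvd_of_pow_eq_one htr) hb
    have hcomm : Commute b t := by
      have h1 := cop (hnil _ hAt) (⟨b, hbA⟩ : ↥At) ⟨t, htAt⟩ hcop
      exact congrArg Subtype.val h1
    have hb0 : b • x₀ = x₀ := he b hcomm
    have ha0 : a • x₀ = x₀ := odd2 a (r ^ k) hrodd.pow hak x₀ x₁ (hpr0 a haA) (hpr1 a haA)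
    rw [hsab, mul_smul, hb0, ha0]
  have hAt1 : ∀ s ∈ At, s • x₁ = x₁ := by
    intro s hs
    rcases hpr1 s hs with h | h
    · exfalso
      apply hx
      have h2 : s • x₁ = s • x₀ := by rw [h, hAt0 s hs]
      exact ((MulAction.injective s) h2).symm
    · exact h
  -- the family
  let a : Option Ω → Subgroup Γ := fun i => i.elim At Ax
  have ha : Function.Injective a := by
    have key : ∀ x, At ≠ Ax x := by
      intro x h
      have h1 : u x ∈ At := h ▸ huAx x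
      have h2 := ((hu x).2 x₀).1 (hAt0 _ h1)
      have h3 := ((hu x).2 x₁).1 (hAt1 _ h1)
      exact hx (h2.trans h3.symm)
    intro i j hij
    cases i with
    | none =>
      cases j with
      | none => rfl
      | some y => exact absurd hij (key y)
    | some x =>
      cases j with
      | none => exact absurd hij.symm (key x)
      | some y =>
        have h0 : Ax x = Ax y := hij
        have h1 : u y ∈ Ax x := h0 ▸ huAx y
        have h2 : u y • x = x := hAxs x h1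
        rw [((hu y).2 x).1 h2]
  have ha𝓐 : ∀ i, a i ∈ 𝓐 := by
    intro i
    cases i with
    | none => exact hAt
    | some x => exact hAx x
  refine core 𝓐 hmin hprop hcov (fun x : Ω => MulAction.stabilizer Γ x) hstab a ha ha𝓐 ?_
  intro i g hg
  left
  cases i with
  | none => exact ⟨x₀, hAt0 g hg⟩
  | some x => exact ⟨x, hAxs x hg⟩

end Cfsg.Agent.Lib.Helper42.NilCov
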