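import Cfsg.Agent.Lib.Helper42.NilCov.Defs
import Cfsg.Agent.Lib.Helper42.NilCov.CORE
import Cfsg.Agent.Lib.Helper42.NilCov.STB
import Cfsg.Agent.Lib.Helper42.NilCov.COP
import Cfsg.Agent.Lib.Helper42.NilCov.ODD2

set_option autoImplicit false

/-! NilCov farm (S3894), piece T2II -/

namespace Cfsg.Agent.Lib.Helper42.NilCov

open scoped LinearAlgebra.Projectivization MatrixGroups
open Matrix

variable {n : ℕ} {F : Type*} [Field F]

theorem T2II {Γ Ω : Type*} [Group Γ] [Finite Γ] [MulAction Γ Ω] [Finite Ω] (p r : ℕ) [Fact p.Prime]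
    [Fact r.Prime] (hp : p ≠ 2) (hr : r ≠ 2)
    (hcard : Nat.card Ω ≡ 1 [MOD p])
    (hstab : ∀ x : Ω, MulAction.stabilizer Γ x ≠ ⊤)
    (hU : ∀ x : Ω, ∃ u : Γ, UFix p u x)
    (t : Γ) (x₀ x₁ : Ω) (hx : x₀ ≠ x₁) (ht2 : ∃ k : ℕ, t ^ 2 ^ k = 1)
    (hfix : ∀ y : Ω, t • y = y ↔ y = x₀ ∨ y = x₁)
    (hder : ∀ w : Γ, orderOf w = r → ∀ x : Ω, w • x ≠ x)
    (hf : ∀ h : Γ, (∀ x : Ω, h • x ≠ x) → ∃ g : Γ, h ∈ Subgroup.zpowers g ∧ r ∣ orderOf g) :
    ¬ NilMinCover Γ := by
  rintro ⟨𝓐, ⟨hprop, hcov⟩, hmin, hnil⟩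
  have hrp : r.Prime := Fact.out
  have hpp : p.Prime := Fact.out
  have hrodd : Odd r := hrp.odd_of_ne_two hr
  have hpodd : Odd p := hpp.odd_of_ne_two hp
  choose u hu using hU
  choose Ax hAx huAx using fun x => hcov (u x)
  obtain ⟨At, hAt, htAt⟩ := hcov t
  obtain ⟨k2, hk2⟩ := ht2
  have hAxs : ∀ x, Ax x ≤ MulAction.stabilizer Γ x := fun x =>
    le_stab p hcard (Ax x) (hnil _ (hAx x)) (u x) x (hu x) (huAx x)
  -- elements of odd order of `A_t` fix both points
  have key : ∀ w ∈ At, ∀ m : ℕ, Odd m → w ^ m = 1 → w • x₀ = x₀ ∧ w • x₁ = x₁ := by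
    intro w hw m hm hwm
    have hcop : (orderOf (⟨w, hw⟩ : ↥At)).Coprime (orderOf (⟨t, htAt⟩ : ↥At)) := by
      rw [Subgroup.orderOf_mk, Subgroup.orderOf_mk]
      have h1 : (m).Coprime (2 ^ k2) := (Nat.Coprime.pow_right k2 hm.coprime_two_right)
      exact Nat.Coprime.coprime_dvd_left (orderOf_dvd_of_pow_eq_one hwm)
        (Nat.Coprime.coprime_dvd_right (orderOf_dvd_of_pow_eq_one hk2) h1)
    have hcomm : Commute w t := by
      have h1 := cop (hnil _ hAt) (⟨w, hw⟩ : ↥At) ⟨t, htAt⟩ hcop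
      exact congrArg Subtype.val h1
    have hpres : ∀ y : Ω, t • y = y → t • (w • y) = w • y := by
      intro y hy
      rw [← mul_smul, ← hcomm.eq, mul_smul, hy]
    have h0 : w • x₀ = x₀ ∨ w • x₀ = x₁ := (hfix _).1 (hpres x₀ ((hfix _).2 (Or.inl rfl)))
    have h1 : w • x₁ = x₀ ∨ w • x₁ = x₁ := (hfix _).1 (hpres x₁ ((hfix _).2 (Or.inr rfl)))
    exact ⟨odd2 w m hm hwm x₀ x₁ h0 h1, odd2 w m hm hwm x₁ x₀ h1.symm h0.symm⟩
  -- the family
  let a : Option Ω → Subgroup Γ := fun i => i.elim At Ax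
  have ha : Function.Injective a := by
    have key2 : ∀ x, At ≠ Ax x := by
      intro x h
      have h1 : u x ∈ At := h ▸ huAx x
      obtain ⟨k, hk⟩ := (hu x).1
      obtain ⟨h2, h3⟩ := key (u x) h1 (p ^ k) hpodd.pow hk
      exact hx ((((hu x).2 x₀).1 h2).trans (((hu x).2 x₁).1 h3).symm)
    intro i j hij
    cases i with
    | none =>
      cases j with
      | none => rfl
      | some y => exact absurd hij (key2 y)
    | some x =>
      cases j with
      | none => exact absurd hij.symm (key2 x)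
      | some y =>
        have h0 : Ax x = Ax y := hij
        have h1 : u y ∈ Ax x := h0 ▸ huAx y
        have h2 : u y • x = x := hAxs x h1
        rw [((hu y).2 x).1 h2]
  have ha𝓐 : ∀ i, a i ∈ 𝓐 := by
    intro i
    cases i with
    | none => exact hAt
    | some x => exact hAx x
  refine core 𝓐 hmin hprop hcov (fun x : Ω => MulAction.stabilizer Γ x) hstab a ha ha𝓐 ?_
  intro i g hg
  cases i with
  | some x => exact Or.inl ⟨x, hAxs x hg⟩
  | none =>
    by_cases hgf : ∃ x : Ω, g • x = x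
    · obtain ⟨x, hgx⟩ := hgf
      exact Or.inl ⟨x, hgx⟩
    · right
      have hgf' : ∀ x : Ω, g • x ≠ x := fun x hx' => hgf ⟨x, hx'⟩
      obtain ⟨g', hgg', hrg'⟩ := hf g hgf'
      obtain ⟨A'', hA'', hg'A⟩ := hcov g'
      have hgA'' : g ∈ A'' := ((Subgroup.zpowers_le).2 hg'A) hgg'
      refine ⟨A'', hA'', ?_, hgA''⟩
      intro j hj
      cases j with
      | some x =>
        have h0 : A'' = Ax x := hj
        exact hgf' x (hAxs x (h0 ▸ hgA''))
      | none =>
        have h0 : A'' = At := hj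
        have hg'At : g' ∈ At := h0 ▸ hg'A
        have hord : orderOf (g' ^ (orderOf g' / r)) = r :=
          orderOf_pow_orderOf_div (orderOf_pos g').ne' hrg'
        have hwAt : g' ^ (orderOf g' / r) ∈ At := At.pow_mem hg'At _
        have hwr : (g' ^ (orderOf g' / r)) ^ r = 1 := by
          have h9 := pow_orderOf_eq_one (g' ^ (orderOf g' / r))
          rwa [hord] at h9
        exact hder _ hord x₀ (key _ hwAt r hrodd hwr).1

end Cfsg.Agent.Lib.Helper42.NilCov
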