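import Cfsg.Agent.Lib.Helper42.NilCov.Defs
import Cfsg.Agent.Lib.Helper42.NilCov.CORE
import Cfsg.Agent.Lib.Helper42.NilCov.STB

set_option autoImplicit false

/-! NilCov farm (S3894), piece T3 -/

namespace Cfsg.Agent.Lib.Helper42.NilCov

open scoped LinearAlgebra.Projectivization MatrixGroups
open Matrix

variable {n : ℕ} {F : Type*} [Field F]

theorem T3 {Γ Ω : Type*} [Group Γ] [Finite Γ] [MulAction Γ Ω] [Finite Ω] (p : ℕ) [Fact p.Prime]
    (hcard : Nat.card Ω ≡ 1 [MOD p])
    (hstab : ∀ x : Ω, MulAction.stabilizer Γ x ≠ ⊤)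
    (hU : ∀ x : Ω, ∃ u : Γ, UFix p u x)
    (x₀ : Ω) (u u' : Γ) (hu : UFix p u x₀) (hu' : UFix p u' x₀)
    (hNC : ∀ N : Subgroup Γ, Group.IsNilpotent ↥N → u ∈ N → u' ∈ N → False) :
    ¬ NilMinCover Γ := by
  classical
  rintro ⟨𝓐, ⟨hprop, hcov⟩, hmin, hnil⟩
  choose w hw using hU
  -- the family of elements
  let I : Option Ω → Γ := fun o => o.elim u' (fun x => if x = x₀ then u else w x)
  let pt : Option Ω → Ω := fun o => o.elim x₀ id
  have hI : ∀ o, UFix p (I o) (pt o) := by
    intro o
    cases o with
    | none => exact hu'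
    | some x =>
      show UFix p (if x = x₀ then u else w x) x
      by_cases hx : x = x₀
      · rw [if_pos hx, hx]; exact hu
      · rw [if_neg hx]; exact hw x
  choose a ha𝓐 haI using fun o => hcov (I o)
  have hle : ∀ o, a o ≤ MulAction.stabilizer Γ (pt o) := fun o =>
    le_stab p hcard (a o) (hnil _ (ha𝓐 o)) (I o) (pt o) (hI o) (haI o)
  have hpt : ∀ o o', a o = a o' → pt o = pt o' := by
    intro o o' h
    have h1 : I o' ∈ MulAction.stabilizer Γ (pt o) := hle o (h ▸ haI o')
    exact ((hI o').2 (pt o)).1 (MulAction.mem_stabilizer_iff.1 h1)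
  have hinj : Function.Injective a := by
    intro o o' h
    have h1 := hpt o o' h
    cases o with
    | none =>
      cases o' with
      | none => rfl
      | some y =>
        exfalso
        have h2 : x₀ = y := h1
        have h3 : I (some y) = u := by
          show (if y = x₀ then u else w y) = u
          rw [if_pos h2.symm]
        have h4 : u ∈ a none := by rw [h, ← h3]; exact haI _
        exact hNC (a none) (hnil _ (ha𝓐 _)) h4 (haI none)
    | some x =>
      cases o' with
      | none =>
        exfalso
        have h2 : x = x₀ := h1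
        have h3 : I (some x) = u := by
          show (if x = x₀ then u else w x) = u
          rw [if_pos h2]
        have h4 : u ∈ a none := by rw [← h, ← h3]; exact haI _
        exact hNC (a none) (hnil _ (ha𝓐 _)) h4 (haI none)
      | some y =>
        have h2 : x = y := h1
        rw [h2]
  exact core 𝓐 hmin hprop hcov (fun x => MulAction.stabilizer Γ x) hstab a hinj ha𝓐
    (fun i g hg => Or.inl ⟨pt i, hle i hg⟩)

end Cfsg.Agent.Lib.Helper42.NilCov
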