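import Cfsg.Agent.Lib.Helper42.NilCov.Defs

set_option autoImplicit false

/-! NilCov farm (S3894), piece TE -/

namespace Cfsg.Agent.Lib.Helper42.NilCov

open scoped LinearAlgebra.Projectivization MatrixGroups
open Matrix

variable {n : ℕ} {F : Type*} [Field F]

theorem tD_comm (a : Fˣ) (ha : a ^ 4 ≠ 1) (s : PG 2 F) (hs : Commute s (im (tD a))) :
    s • pt0 F = pt0 F := by
  obtain ⟨s, rfl⟩ := QuotientGroup.mk'_surjective _ s
  have h1 : (QuotientGroup.mk' (Subgroup.center (GL (Fin 2) F)) (Matrix.SpecialLinearGroup.toGL (tD a) * s) : PG 2 F)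
      = QuotientGroup.mk' (Subgroup.center (GL (Fin 2) F)) (s * Matrix.SpecialLinearGroup.toGL (tD a)) := by
    rw [map_mul, map_mul]
    exact hs.eq.symm
  rw [QuotientGroup.mk'_apply, QuotientGroup.mk'_apply, QuotientGroup.eq,
    Matrix.GeneralLinearGroup.mem_center_iff_val_mem_range_scalar] at h1
  obtain ⟨l, hl⟩ := h1
  have h2 : (s : Matrix (Fin 2) (Fin 2) F) * (tD a : Matrix (Fin 2) (Fin 2) F) =
      ((tD a : Matrix (Fin 2) (Fin 2) F) * (s : Matrix (Fin 2) (Fin 2) F)) * Matrix.scalar (Fin 2) l := by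
    rw [hl]
    have : (s * Matrix.SpecialLinearGroup.toGL (tD a) : GL (Fin 2) F) =
        (Matrix.SpecialLinearGroup.toGL (tD a) * s) *
          ((Matrix.SpecialLinearGroup.toGL (tD a) * s)⁻¹ * (s * Matrix.SpecialLinearGroup.toGL (tD a))) := by
      group
    exact congrArg Units.val this
  have e00 := congrFun (congrFun h2 0) 0
  have e01 := congrFun (congrFun h2 0) 1
  have e10 := congrFun (congrFun h2 1) 0
  have e11 := congrFun (congrFun h2 1) 1
  simp only [tD, Matrix.mul_apply, Fin.sum_univ_two, Matrix.scalar_apply, Matrix.diagonal_apply,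
    Matrix.of_apply, Matrix.cons_val', Matrix.cons_val_zero, Matrix.cons_val_one,
    Matrix.cons_val_fin_one] at e00 e01 e10 e11
  simp at e00 e01 e10 e11
  have ha0 : (a : F) ≠ 0 := a.ne_zero
  have ha4 : (a : F) ^ 4 ≠ 1 := by
    intro h
    apply ha
    apply Units.ext
    rw [Units.val_pow_eq_pow_val, h, Units.val_one]
  have ha2 : (a : F) ^ 2 ≠ 1 := by
    intro h
    apply ha4
    have : (a : F) ^ 4 = ((a : F) ^ 2) ^ 2 := by ring
    rw [this, h, one_pow]
  have hdet : (s : Matrix (Fin 2) (Fin 2) F).det ≠ 0 := by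
    have := (Matrix.isUnit_iff_isUnit_det _).1 s.isUnit
    exact this.ne_zero
  rw [Matrix.det_fin_two] at hdet
  have hr : (s : Matrix (Fin 2) (Fin 2) F) 1 0 = 0 := by
    by_contra hr
    have hl2 : l = (a : F) ^ 2 := by
      have : (s : Matrix (Fin 2) (Fin 2) F) 1 0 * (l - (a : F) ^ 2) = 0 := by
        have h3 : (a : F) * (a : F)⁻¹ = 1 := mul_inv_cancel₀ ha0
        linear_combination (-(a : F)) * e10 - ((s : Matrix (Fin 2) (Fin 2) F) 1 0 * l) * h3
      exact sub_eq_zero.1 ((mul_eq_zero.1 this).resolve_left hr)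
    subst hl2
    have hp : (s : Matrix (Fin 2) (Fin 2) F) 0 0 = 0 := by
      have : ((a : F) * ((a : F) ^ 2 - 1)) * (s : Matrix (Fin 2) (Fin 2) F) 0 0 = 0 := by
        linear_combination -e00
      exact (mul_eq_zero.1 this).resolve_left (mul_ne_zero ha0 (sub_ne_zero.2 ha2))
    have hq : (s : Matrix (Fin 2) (Fin 2) F) 0 1 = 0 := by
      have : ((a : F) ^ 4 - 1) * (s : Matrix (Fin 2) (Fin 2) F) 0 1 = 0 := by
        have h3 : (a : F) * (a : F)⁻¹ = 1 := mul_inv_cancel₀ ha0
        linear_combination (-(a : F)) * e01 + ((s : Matrix (Fin 2) (Fin 2) F) 0 1) * h3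
      exact (mul_eq_zero.1 this).resolve_left (sub_ne_zero.2 ha4)
    apply hdet
    rw [hp, hq]
    ring
  have hp : (s : Matrix (Fin 2) (Fin 2) F) 0 0 ≠ 0 := by
    intro hp
    apply hdet
    rw [hp, hr]
    ring
  unfold pt0
  rw [mk_smul_mk, Projectivization.mk_eq_mk_iff']
  refine ⟨(s : Matrix (Fin 2) (Fin 2) F) 0 0, ?_⟩
  funext i
  fin_cases i
  · simp [Matrix.mulVec, dotProduct, Fin.sum_univ_two]
  · simp [Matrix.mulVec, dotProduct, Fin.sum_univ_two, hr]

end Cfsg.Agent.Lib.Helper42.NilCov
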