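import Cfsg.Agent.Lib.Helper42.NilCov.Defs
import Cfsg.Agent.Lib.Helper42.NilCov.PT

set_option autoImplicit false

/-! NilCov farm (S3894), piece TFIX -/

namespace Cfsg.Agent.Lib.Helper42.NilCov

open scoped LinearAlgebra.Projectivization MatrixGroups
open Matrix

variable {n : ℕ} {F : Type*} [Field F]

theorem TFIX_mulVec (a : Fˣ) (v : Fin 2 → F) :
    ((Matrix.SpecialLinearGroup.toGL (tD a) : GL (Fin 2) F) : Matrix (Fin 2) (Fin 2) F) *ᵥ v =
      ![(a : F) * v 0, ((a⁻¹ : Fˣ) : F) * v 1] := by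
  show !![(a : F), 0; 0, ((a⁻¹ : Fˣ) : F)] *ᵥ v = _
  funext i
  fin_cases i <;> simp [Matrix.mulVec, dotProduct, Fin.sum_univ_two]

theorem tD_fix (a : Fˣ) (ha : a ^ 2 ≠ 1) (y : ℙ F (Fin 2 → F)) :
    im (tD a) • y = y ↔ y = pt0 F ∨ y = pt1 F := by
  induction y using Projectivization.ind with | _ v hv => ?_
  unfold im
  rw [smul_mk_eq_iff, TFIX_mulVec]
  constructor
  · rintro ⟨c, hc⟩
    have h0 : (a : F) * v 0 = c * v 0 := by simpa using congrFun hc 0
    have h1 : ((a⁻¹ : Fˣ) : F) * v 1 = c * v 1 := by simpa using congrFun hc 1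
    by_cases hv0 : v 0 = 0
    · right
      unfold pt1
      rw [Projectivization.mk_eq_mk_iff']
      refine ⟨v 1, ?_⟩
      funext i
      fin_cases i <;> simp [hv0]
    · by_cases hv1 : v 1 = 0
      · left
        unfold pt0
        rw [Projectivization.mk_eq_mk_iff']
        refine ⟨v 0, ?_⟩
        funext i
        fin_cases i <;> simp [hv1]
      · exfalso
        have e0' : (a : F) = c := mul_right_cancel₀ hv0 h0
        have e1' : ((a⁻¹ : Fˣ) : F) = c := mul_right_cancel₀ hv1 h1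
        apply ha
        have h2 : (a : F) = ((a⁻¹ : Fˣ) : F) := e0'.trans e1'.symm
        have h3 : a = a⁻¹ := Units.ext h2
        rw [pow_two]
        nth_rewrite 2 [h3]
        exact mul_inv_cancel a
  · rintro (h | h)
    · unfold pt0 at h
      rw [Projectivization.mk_eq_mk_iff'] at h
      obtain ⟨d, hd⟩ := h
      refine ⟨a, ?_⟩
      rw [← hd]
      funext i
      fin_cases i <;> simp
    · unfold pt1 at h
      rw [Projectivization.mk_eq_mk_iff'] at h
      obtain ⟨d, hd⟩ := h
      refine ⟨((a⁻¹ : Fˣ) : F), ?_⟩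
      rw [← hd]
      funext i
      fin_cases i <;> simp

end Cfsg.Agent.Lib.Helper42.NilCov
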