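import Cfsg.Agent.Lib.Helper42.NilCov.Defs

set_option autoImplicit false

/-! NilCov farm (S3894), piece TONE -/

namespace Cfsg.Agent.Lib.Helper42.NilCov

open scoped LinearAlgebra.Projectivization MatrixGroups
open Matrix

variable {n : ℕ} {F : Type*} [Field F]

theorem TONE_tD_one : tD (1 : Fˣ) = 1 := by
  apply Subtype.ext
  change (!![((1 : Fˣ) : F), 0; 0, (((1 : Fˣ)⁻¹ : Fˣ) : F)] : Matrix (Fin 2) (Fin 2) F) = 1
  simp [Matrix.one_fin_two]

theorem im_tD_one : im (tD (1 : Fˣ)) = 1 := by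
  unfold im
  rw [TONE_tD_one, map_one, map_one]

end Cfsg.Agent.Lib.Helper42.NilCov
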