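import Cfsg.Agent.Lib.Helper42.NilCov.Defs

set_option autoImplicit false

/-! NilCov farm (S3894), piece TPOW -/

namespace Cfsg.Agent.Lib.Helper42.NilCov

open scoped LinearAlgebra.Projectivization MatrixGroups
open Matrix

variable {n : ℕ} {F : Type*} [Field F]

theorem TPOW_tD_mul (a b : Fˣ) : tD a * tD b = tD (a * b) := by
  apply Subtype.ext
  change (!![(a : F), 0; 0, ((a⁻¹ : Fˣ) : F)] * !![(b : F), 0; 0, ((b⁻¹ : Fˣ) : F)] :
    Matrix (Fin 2) (Fin 2) F) = !![((a * b : Fˣ) : F), 0; 0, (((a * b)⁻¹ : Fˣ) : F)]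
  rw [Matrix.mul_fin_two]
  simp [mul_comm]

theorem TPOW_tD_one : tD (1 : Fˣ) = 1 := by
  apply Subtype.ext
  change (!![((1 : Fˣ) : F), 0; 0, (((1 : Fˣ)⁻¹ : Fˣ) : F)] : Matrix (Fin 2) (Fin 2) F) = 1
  simp [Matrix.one_fin_two]

theorem TPOW_tD_pow (a : Fˣ) (k : ℕ) : (tD a) ^ k = tD (a ^ k) := by
  induction k with
  | zero => rw [pow_zero, pow_zero, TPOW_tD_one]
  | succ k ih => rw [pow_succ, pow_succ, ih, TPOW_tD_mul]

theorem im_tD_pow (a : Fˣ) (k : ℕ) : (im (tD a)) ^ k = im (tD (a ^ k)) := by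
  unfold im
  rw [← map_pow, ← map_pow, TPOW_tD_pow]

end Cfsg.Agent.Lib.Helper42.NilCov
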