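import Cfsg.Agent.Lib.Helper42.NilCov.Defs
import Cfsg.Agent.Lib.Helper43.Transv

set_option autoImplicit false

/-! NilCov farm (S3894), piece TR -/

namespace Cfsg.Agent.Lib.Helper42.NilCov

open scoped LinearAlgebra.Projectivization MatrixGroups
open Matrix

variable {n : ℕ} {F : Type*} [Field F]

theorem exists_gl_e0 (hn : 1 ≤ n) (v : Fin n → F) (hv : v ≠ 0) :
    ∃ h : GL (Fin n) F, (h : Matrix (Fin n) (Fin n) F) *ᵥ e0 n F = v := by
  have he : e0 n F ≠ 0 := by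
    intro h
    have := congrFun h ⟨0, by omega⟩
    simp [e0] at this
  obtain ⟨e, hev⟩ := Cfsg.Agent.Lib.Helper43.exists_equiv_apply_eq (K := F) rfl (e0 n F) v he hv
  refine ⟨⟨LinearMap.toMatrix' (e : (Fin n → F) →ₗ[F] (Fin n → F)),
    LinearMap.toMatrix' (e.symm : (Fin n → F) →ₗ[F] (Fin n → F)), ?_, ?_⟩, ?_⟩
  · rw [← LinearMap.toMatrix'_comp, LinearEquiv.comp_symm, LinearMap.toMatrix'_id]
  · rw [← LinearMap.toMatrix'_comp, LinearEquiv.symm_comp, LinearMap.toMatrix'_id]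
  · show LinearMap.toMatrix' (e : (Fin n → F) →ₗ[F] (Fin n → F)) *ᵥ e0 n F = v
    rw [← Matrix.toLin'_apply, Matrix.toLin'_toMatrix']
    exact hev

end Cfsg.Agent.Lib.Helper42.NilCov
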