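import Cfsg.Agent.Lib.Helper42.NilCov.Defs
import Cfsg.Agent.Lib.Helper42.NilCov.JC
import Cfsg.Agent.Lib.Helper42.NilCov.CJC
import Cfsg.Agent.Lib.Helper42.NilCov.TR
import Cfsg.Agent.Lib.Helper42.NilCov.PU

set_option autoImplicit false

/-! NilCov farm (S3894), piece UX -/

namespace Cfsg.Agent.Lib.Helper42.NilCov

open scoped LinearAlgebra.Projectivization MatrixGroups
open Matrix

variable {n : ℕ} {F : Type*} [Field F]

theorem UX (p : ℕ) [Fact p.Prime] [CharP F p] (hn : 1 ≤ n) (x : ℙ F (Fin n → F)) :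
    ∃ u : Matrix.SpecialLinearGroup (Fin n) F, UFix p (im u) x := by
  induction x using Projectivization.ind with
  | h v hv =>
    obtain ⟨h, rfl⟩ := exists_gl_e0 hn v hv
    exact ⟨cj h (Jg n F), ufix_of_ucol p _ _ (cj_col p h (Jg n F) (e0 n F) (J_col p hn))⟩

end Cfsg.Agent.Lib.Helper42.NilCov
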