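import Cfsg.Agent.Lib.Helper42.NilCov.Defs

set_option autoImplicit false

/-! NilCov farm (S3894), piece W -/

namespace Cfsg.Agent.Lib.Helper42.NilCov

open scoped LinearAlgebra.Projectivization MatrixGroups
open Matrix

variable {n : ℕ} {F : Type*} [Field F]

theorem W_noeig (g : GL (Fin 2) F)
    (hh : ∀ x : ℙ F (Fin 2 → F),
      (QuotientGroup.mk' (Subgroup.center (GL (Fin 2) F)) g : PG 2 F) • x ≠ x) :
    ∀ v : Fin 2 → F, v ≠ 0 → ∀ c : F, (g : Matrix (Fin 2) (Fin 2) F) *ᵥ v ≠ c • v := by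
  intro v hv c hc
  apply hh (Projectivization.mk F v hv)
  rw [mk_smul_mk, Projectivization.mk_eq_mk_iff']
  exact ⟨c, hc.symm⟩

theorem W_det_ne (H : Matrix (Fin 2) (Fin 2) F)
    (hne : ∀ v : Fin 2 → F, v ≠ 0 → ∀ c : F, H *ᵥ v ≠ c • v) (x y : F)
    (hxy : (x, y) ≠ (0 : F × F)) :
    (x • (1 : Matrix (Fin 2) (Fin 2) F) + y • H).det ≠ 0 := by
  intro hd
  obtain ⟨v, hv, hv0⟩ := Matrix.exists_mulVec_eq_zero_iff.2 hd
  rw [Matrix.add_mulVec, Matrix.smul_mulVec, Matrix.smul_mulVec, Matrix.one_mulVec] at hv0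
  by_cases hy : y = 0
  · subst hy
    rw [zero_smul, add_zero] at hv0
    rcases smul_eq_zero.1 hv0 with h | h
    · exact hxy (by rw [h]; rfl)
    · exact hv h
  · apply hne v hv (-(x / y))
    have h1 : y • (H *ᵥ v) = -(x • v) := eq_neg_of_add_eq_zero_right hv0
    calc H *ᵥ v = y⁻¹ • (y • (H *ᵥ v)) := by rw [smul_smul, inv_mul_cancel₀ hy, one_smul]
      _ = (-(x / y)) • v := by
        rw [h1, smul_neg, smul_smul, neg_smul, div_eq_mul_inv, mul_comm]

theorem W_c_ne (H : Matrix (Fin 2) (Fin 2) F)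
    (hne : ∀ v : Fin 2 → F, v ≠ 0 → ∀ c : F, H *ᵥ v ≠ c • v) : H 1 0 ≠ 0 := by
  intro h
  apply hne ![1, 0] v0_ne (H 0 0)
  ext i
  fin_cases i <;> simp [Matrix.mulVec, dotProduct, Fin.sum_univ_two, h]

theorem W_form (H g : Matrix (Fin 2) (Fin 2) F) (hc : H 1 0 ≠ 0) (hcomm : H * g = g * H) :
    g = (g 0 0 - g 1 0 / H 1 0 * H 0 0) • (1 : Matrix (Fin 2) (Fin 2) F) +
      (g 1 0 / H 1 0) • H := by
  have e00 := congrFun (congrFun hcomm 0) 0
  have e10 := congrFun (congrFun hcomm 1) 0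
  simp only [Matrix.mul_apply, Fin.sum_univ_two] at e00 e10
  ext i j
  fin_cases i <;> fin_cases j
  · simp
  · simp
    field_simp
    linear_combination -e00
  · simp
    field_simp
  · simp
    field_simp
    linear_combination -e10

theorem W_card_centralizer [Fintype F] (g : GL (Fin 2) F)
    (hne : ∀ v : Fin 2 → F, v ≠ 0 → ∀ c : F, (g : Matrix (Fin 2) (Fin 2) F) *ᵥ v ≠ c • v) :
    Nat.card (Subgroup.centralizer ({g} : Set (GL (Fin 2) F))) = Fintype.card F ^ 2 - 1 := by
  classical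
  have hc := W_c_ne _ hne
  let φ : {z : F × F // z ≠ 0} → Subgroup.centralizer ({g} : Set (GL (Fin 2) F)) := fun z =>
    ⟨Matrix.GeneralLinearGroup.mkOfDetNeZero
      (z.1.1 • 1 + z.1.2 • (g : Matrix (Fin 2) (Fin 2) F)) (W_det_ne _ hne z.1.1 z.1.2 z.2), by
      rw [Subgroup.mem_centralizer_singleton_iff]
      apply Units.ext
      change (z.1.1 • 1 + z.1.2 • (g : Matrix (Fin 2) (Fin 2) F)) * (g : Matrix (Fin 2) (Fin 2) F)
        = (g : Matrix (Fin 2) (Fin 2) F) * (z.1.1 • 1 + z.1.2 • (g : Matrix (Fin 2) (Fin 2) F))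
      simp [mul_add, add_mul]⟩
  have hφ : ∀ z, (((φ z : Subgroup.centralizer ({g} : Set (GL (Fin 2) F))) : GL (Fin 2) F) :
      Matrix (Fin 2) (Fin 2) F) = z.1.1 • 1 + z.1.2 • (g : Matrix (Fin 2) (Fin 2) F) := fun z => rfl
  have hbij : Function.Bijective φ := by
    constructor
    · intro z z' hzz
      have h1 := hφ z
      rw [hzz, hφ z'] at h1
      have e10 := congrFun (congrFun h1 1) 0
      have e00 := congrFun (congrFun h1 0) 0
      simp at e10 e00
      have h2 : z'.1.2 = z.1.2 := by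
        rcases e10 with h | h
        · exact h
        · exact absurd h hc
      rw [h2] at e00
      have h3 : z'.1.1 = z.1.1 := by simpa using e00
      exact Subtype.ext (Prod.ext h3.symm h2.symm)
    · rintro ⟨k, hk⟩
      rw [Subgroup.mem_centralizer_singleton_iff] at hk
      have hk' : (g : Matrix (Fin 2) (Fin 2) F) * (k : Matrix (Fin 2) (Fin 2) F) =
          (k : Matrix (Fin 2) (Fin 2) F) * (g : Matrix (Fin 2) (Fin 2) F) := by
        have := congrArg Units.val hk.symm
        simpa using this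
      have hf := W_form _ _ hc hk'
      refine ⟨⟨((k : Matrix (Fin 2) (Fin 2) F) 0 0 - (k : Matrix (Fin 2) (Fin 2) F) 1 0 /
        (g : Matrix (Fin 2) (Fin 2) F) 1 0 * (g : Matrix (Fin 2) (Fin 2) F) 0 0,
        (k : Matrix (Fin 2) (Fin 2) F) 1 0 / (g : Matrix (Fin 2) (Fin 2) F) 1 0), ?_⟩, ?_⟩
      rotate_left
      · apply Subtype.ext
        apply Units.ext
        exact hf.symm
      · intro h0
        have h1 := (Prod.ext_iff.1 h0).1
        have h2 := (Prod.ext_iff.1 h0).2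
        simp only [Prod.fst_zero, Prod.snd_zero] at h1 h2
        rw [h1, h2] at hf
        simp at hf
  rw [← Nat.card_congr (Equiv.ofBijective φ hbij)]
  rw [Nat.card_eq_fintype_card, Fintype.card_subtype_compl, Fintype.card_prod]
  simp [sq]

theorem exists_w [Fintype F] (r : ℕ) [Fact r.Prime] (hr : r ≠ 2) (hrq : r ∣ Fintype.card F + 1)
    (h : PG 2 F) (hh : ∀ x : ℙ F (Fin 2 → F), h • x ≠ x) :
    ∃ w : Matrix.SpecialLinearGroup (Fin 2) F, Commute (im w) h ∧ orderOf (im w) = r := by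
  classical
  obtain ⟨g, rfl⟩ := QuotientGroup.mk'_surjective (Subgroup.center (GL (Fin 2) F)) h
  have hne := W_noeig g hh
  have hrp : r.Prime := Fact.out
  have hq1 : 1 < Fintype.card F := Fintype.one_lt_card
  have hcard := W_card_centralizer g hne
  have hdvd : r ∣ Nat.card (Subgroup.centralizer ({g} : Set (GL (Fin 2) F))) := by
    rw [hcard]
    have h1 : Fintype.card F ^ 2 - 1 = (Fintype.card F + 1) * (Fintype.card F - 1) := by
      obtain ⟨m, hm⟩ : ∃ m, Fintype.card F = m + 1 := ⟨Fintype.card F - 1, by omega⟩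
      rw [hm, Nat.add_sub_cancel]
      have h5 : (m + 1) ^ 2 = (m + 1 + 1) * m + 1 := by ring
      rw [h5, Nat.add_sub_cancel]
    rw [h1]
    exact Dvd.dvd.mul_right hrq _
  obtain ⟨⟨k, hkC⟩, hk⟩ := exists_prime_orderOf_dvd_card' r hdvd
  rw [Subgroup.orderOf_mk] at hk
  have hcop : Nat.Coprime r (Fintype.card F - 1) := by
    rw [Nat.Prime.coprime_iff_not_dvd hrp]
    intro h1
    have h2 : r ∣ (Fintype.card F + 1) - (Fintype.card F - 1) := Nat.dvd_sub hrq h1
    have h3 : (Fintype.card F + 1) - (Fintype.card F - 1) = 2 := by omega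
    rw [h3] at h2
    exact hr ((Nat.prime_dvd_prime_iff_eq hrp Nat.prime_two).1 h2)
  have hunit : ∀ c : Fˣ, c ^ r = 1 → c = 1 := by
    intro c hc
    have h1 : c ^ (Fintype.card F - 1) = 1 := by
      rw [← Fintype.card_units]
      exact pow_card_eq_one
    have h2 : orderOf c ∣ Nat.gcd r (Fintype.card F - 1) :=
      Nat.dvd_gcd (orderOf_dvd_of_pow_eq_one hc) (orderOf_dvd_of_pow_eq_one h1)
    rw [hcop] at h2
    exact orderOf_eq_one_iff.1 (Nat.dvd_one.1 h2)
  have hkr : k ^ r = 1 := by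
    have h9 := pow_orderOf_eq_one k
    rwa [hk] at h9
  have hdet : Matrix.GeneralLinearGroup.det k = 1 := hunit _ (by rw [← map_pow, hkr, map_one])
  have hdet' : (k : Matrix (Fin 2) (Fin 2) F).det = 1 := by
    have := congrArg Units.val hdet
    simpa using this
  let w : Matrix.SpecialLinearGroup (Fin 2) F := ⟨k, hdet'⟩
  have hw : Matrix.SpecialLinearGroup.toGL w = k := Units.ext rfl
  refine ⟨w, ?_, ?_⟩
  · unfold im
    rw [hw]
    have h1 : Commute k g := (Subgroup.mem_centralizer_singleton_iff).1 hkC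
    exact h1.map (QuotientGroup.mk' _)
  · apply orderOf_eq_prime
    · unfold im
      rw [hw, ← map_pow, hkr, map_one]
    · unfold im
      rw [hw]
      intro h1
      have h2 : k ∈ Subgroup.center (GL (Fin 2) F) := (QuotientGroup.eq_one_iff k).1 h1
      rw [Matrix.GeneralLinearGroup.center_eq_range_scalar] at h2
      obtain ⟨c, hc⟩ := h2
      have h3 : c ^ r = 1 := by
        have h4 : Matrix.GeneralLinearGroup.scalar (Fin 2) (c ^ r) = 1 := by
          rw [map_pow, hc, hkr]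
        have h6 : (Matrix.scalar (Fin 2) ((c ^ r : Fˣ) : F)) =
            (1 : Matrix (Fin 2) (Fin 2) F) := congrArg Units.val h4
        have h5 : (Matrix.scalar (Fin 2) ((c ^ r : Fˣ) : F)) 0 0 =
            (1 : Matrix (Fin 2) (Fin 2) F) 0 0 := by rw [h6]
        apply Units.ext
        simpa using h5
      rw [hunit c h3, map_one] at hc
      rw [← hc, orderOf_one] at hk
      exact hrp.one_lt.ne hk

end Cfsg.Agent.Lib.Helper42.NilCov
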